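import Groth.Prelude.Def_Flat
import Groth.Agent.Quot84.Props
import Groth.Agent.UH57.Basic
import Mathlib.RingTheory.Invariant.Basic

/-!
Geometric points of quotients by finite groups, and the universal homeomorphism criterion for
comparison maps between quotients.
-/

set_option autoImplicit false
universe u

open CategoryTheory CategoryTheory.Limits AlgebraicGeometry TopologicalSpace Opposite

namespace Groth.Agent.Fam20

open Polynomial in
theorem exists_smul_eq_apply {A Ω : Type*} [CommRing A] [CommRing Ω] [IsDomain Ω] {G : Type*}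
    [Group G] [Finite G] [MulSemiringAction G A] (φ ψ : A →+* Ω)
    (h : ∀ a, (∀ g : G, g • a = a) → φ a = ψ a) (a : A) : ∃ g : G, ψ a = φ (g • a) := by
  classical
  cases nonempty_fintype G
  let P := MulSemiringAction.charpoly G a
  have hP : P.map φ = P.map ψ := by
    ext n
    rw [coeff_map, coeff_map]
    exact h _ fun g => by
      rw [← coeff_smul, MulSemiringAction.smul_charpoly]
  have h0 : (P.map φ).eval (ψ a) = 0 := by
    rw [hP, Polynomial.eval_map, eval₂_at_apply, MulSemiringAction.eval_charpoly, map_zero]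
  rw [Polynomial.eval_map, show P = _ from MulSemiringAction.charpoly_eq G a, eval₂_finsetProd, Finset.prod_eq_zero_iff] at h0
  obtain ⟨g, -, hg⟩ := h0
  rw [eval₂_sub, eval₂_X, eval₂_C, sub_eq_zero] at hg
  exact ⟨g, hg⟩

open Polynomial in
/-- Two homomorphisms to a domain agreeing on the invariants differ by a group element. -/
theorem exists_smul_eq_hom {A Ω : Type*} [CommRing A] [CommRing Ω] [IsDomain Ω] {G : Type*}
    [Group G] [Finite G] [MulSemiringAction G A] (φ ψ : A →+* Ω)
    (h : ∀ a, (∀ g : G, g • a = a) → φ a = ψ a) : ∃ g : G, ∀ a, ψ a = φ (g • a) := by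
  classical
  cases nonempty_fintype G
  by_contra H
  push Not at H
  choose a ha using H
  let e := Fintype.equivFin G
  let p : A[X] := ∑ g : G, C (a g) * X ^ (e g).val
  have hp : ∀ g, p.coeff (e g).val = a g := fun g => by
    rw [finsetSum_coeff, Finset.sum_eq_single g]
    · simp
    · intro g' _ hne
      rw [coeff_C_mul, coeff_X_pow, if_neg, mul_zero]
      exact fun he => hne (e.injective (Fin.ext he.symm))
    · simp
  obtain ⟨g, hg⟩ := exists_smul_eq_apply (G := G) (mapRingHom φ) (mapRingHom ψ) (fun q hq => by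
    ext n
    simp only [coe_mapRingHom, coeff_map]
    exact h _ fun g => by rw [← coeff_smul, hq g]) p
  refine ha g ?_
  have := congrArg (fun q : Polynomial Ω => q.coeff (e g).val) hg
  simp only [coe_mapRingHom, coeff_map, coeff_smul, hp] at this
  exact this

variable {X Y : Scheme.{u}} {G : Type u} [Group G] [Finite G] {ρ : G →* Aut X} {p : X ⟶ Y}

/-- Field-valued points over the same point of a quotient are conjugate. -/
theorem exists_conj_of_isQuot (hp : SGA1.IsQuot ρ p) {Ω : Type u} [Field Ω]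
    (a b : Spec (CommRingCat.of Ω) ⟶ X) (h : a ≫ p = b ≫ p) :
    ∃ g : G, a ≫ (ρ g).hom = b := by
  have := hp.affine
  let pt : Spec (CommRingCat.of Ω) := (default : PrimeSpectrum Ω)
  obtain ⟨U, hU, hxU, -⟩ :=
    exists_isAffineOpen_mem_and_subset (x := (a ≫ p) pt) (U := ⊤) trivial
  have hV : IsAffineOpen (p ⁻¹ᵁ U) := hU.preimage p
  have := hV.isOpenImmersion_fromSpec
  have := hU.isOpenImmersion_fromSpec
  have hsub : ∀ c : Spec (CommRingCat.of Ω) ⟶ X, c ≫ p = a ≫ p →
      Set.range c ⊆ Set.range hV.fromSpec := by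
    rintro c hc _ ⟨t, rfl⟩
    rw [hV.range_fromSpec]
    have ht : t = pt := Subsingleton.elim (α := PrimeSpectrum Ω) _ _
    show (c ≫ p) t ∈ U
    rw [ht, hc]
    exact hxU
  obtain ⟨φ, hφ⟩ := Spec.map_surjective (IsOpenImmersion.lift hV.fromSpec a (hsub a rfl))
  obtain ⟨ψ, hψ⟩ := Spec.map_surjective (IsOpenImmersion.lift hV.fromSpec b (hsub b h.symm))
  have ha : Spec.map φ ≫ hV.fromSpec = a := by rw [hφ, IsOpenImmersion.lift_fac]
  have hb : Spec.map ψ ≫ hV.fromSpec = b := by rw [hψ, IsOpenImmersion.lift_fac]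
  let _ := Quot84.act hp.inv U
  let _ := (p.app U).hom.toAlgebra
  have := Quot84.isInvariant hp U
  have hcomp : p.app U ≫ φ = p.app U ≫ ψ := by
    apply Spec.map_injective
    rw [Spec.map_comp, Spec.map_comp, ← cancel_mono hU.fromSpec, Category.assoc, Category.assoc,
      p.app_eq_appLE, hU.SpecMap_appLE_fromSpec p hV le_rfl, ← Category.assoc, ← Category.assoc, ha,
      hb, h]
  obtain ⟨g, hg⟩ := exists_smul_eq_hom (G := G) φ.hom ψ.hom fun s hs => by
    obtain ⟨t, ht⟩ := Algebra.IsInvariant.isInvariant (A := Γ(Y, U)) (G := G) s hs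
    rw [← ht]
    exact congrArg (fun k : Γ(Y, U) ⟶ CommRingCat.of Ω => k.hom t) hcomp
  refine ⟨g⁻¹, ?_⟩
  have h2 := hV.SpecMap_appLE_fromSpec (ρ g⁻¹).hom hV (SGA1.preimage_le_of_inv ρ p hp.inv g⁻¹ U)
  rw [← ha, ← hb, Category.assoc, ← h2, ← Category.assoc, ← Spec.map_comp]
  congr 2
  exact CommRingCat.hom_ext (RingHom.ext fun s => (hg s).symm)

omit [Group G] [Finite G] in
/-- Field-valued points lift along surjections after a field extension. -/
theorem exists_lift_point {W : Scheme.{u}} (r : X ⟶ W) [Surjective r] {K : Type u} [Field K]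
    (w : Spec (CommRingCat.of K) ⟶ W) :
    ∃ (L : Type u) (_ : Field L) (j : Spec (CommRingCat.of L) ⟶ Spec (CommRingCat.of K))
      (a : Spec (CommRingCat.of L) ⟶ X), a ≫ r = j ≫ w := by
  have : Surjective (pullback.fst w r) := inferInstance
  obtain ⟨t, -⟩ := (pullback.fst w r).surjective (default : PrimeSpectrum K)
  exact ⟨(pullback w r).residueField t, inferInstance,
    (pullback w r).fromSpecResidueField t ≫ pullback.fst w r,
    (pullback w r).fromSpecResidueField t ≫ pullback.snd w r, by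
    exact (Category.assoc _ _ _).trans
      ((congrArg (_ ≫ ·) pullback.condition.symm).trans (Category.assoc _ _ _).symm)⟩

/-- An equalizing morphism out of an invariant surjection is universally injective. -/
theorem universallyInjective_of_conj {W P : Scheme.{u}} (r : X ⟶ W) [Surjective r]
    (hinv : ∀ g : G, (ρ g).hom ≫ r = r) (m : W ⟶ P)
    (hconj : ∀ (Ω : Type u) [Field Ω] (a b : Spec (CommRingCat.of Ω) ⟶ X),
      a ≫ r ≫ m = b ≫ r ≫ m → ∃ g : G, a ≫ (ρ g).hom = b) :
    UniversallyInjective m := by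
  rw [UniversallyInjective.iff_diagonal]
  refine ⟨fun z => ?_⟩
  let Z := pullback m m
  let c := Z.fromSpecResidueField z
  let ι₁ := c ≫ pullback.fst m m
  let ι₂ := c ≫ pullback.snd m m
  obtain ⟨L, _, j₁, a, ha⟩ := exists_lift_point r (K := Z.residueField z) ι₁
  obtain ⟨M, _, j₂, b, hb⟩ := exists_lift_point r (j₁ ≫ ι₂)
  have hab : (j₂ ≫ a) ≫ r ≫ m = b ≫ r ≫ m := by
    rw [reassoc_of% hb, Category.assoc, reassoc_of% ha]
    simp only [ι₁, ι₂, Category.assoc, pullback.condition]
  obtain ⟨g, hg⟩ := hconj _ (j₂ ≫ a) b hab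
  have heq : j₂ ≫ j₁ ≫ ι₁ = j₂ ≫ j₁ ≫ ι₂ :=
    calc j₂ ≫ j₁ ≫ ι₁ = (j₂ ≫ a) ≫ r := by rw [Category.assoc, ha]
      _ = ((j₂ ≫ a) ≫ (ρ g).hom) ≫ r := by simp only [Category.assoc, hinv]
      _ = b ≫ r := congrArg (· ≫ r) hg
      _ = j₂ ≫ j₁ ≫ ι₂ := hb
  have hfac : (j₂ ≫ j₁ ≫ ι₁) ≫ pullback.diagonal m = (j₂ ≫ j₁) ≫ c := by
    refine pullback.hom_ext ?_ ?_
    · rw [Category.assoc, pullback.diagonal_fst, Category.comp_id]
      simp only [ι₁, Category.assoc]
    · rw [Category.assoc, pullback.diagonal_snd, Category.comp_id, heq]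
      simp only [ι₂, Category.assoc]
  refine ⟨(j₂ ≫ j₁ ≫ ι₁) (default : PrimeSpectrum M), ?_⟩
  refine (Scheme.Hom.comp_apply (j₂ ≫ j₁ ≫ ι₁) (pullback.diagonal m) _).symm.trans ?_
  rw [hfac]
  exact Scheme.fromSpecResidueField_apply z _

/-- The comparison map between quotients is a universal homeomorphism. -/
theorem isUnivHomeo_of_conj {W P : Scheme.{u}} (r : X ⟶ W) [Surjective r]
    (hinv : ∀ g : G, (ρ g).hom ≫ r = r) (m : W ⟶ P) [UniversallyClosed (r ≫ m)] [Surjective (r ≫ m)]
    (hconj : ∀ (Ω : Type u) [Field Ω] (a b : Spec (CommRingCat.of Ω) ⟶ X),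
      a ≫ r ≫ m = b ≫ r ≫ m → ∃ g : G, a ≫ (ρ g).hom = b) :
    FlatMor.IsUnivHomeo m :=
  (UH57.isUnivHomeo_iff' m).2 ⟨UniversallyClosed.of_comp_surjective r m,
    universallyInjective_of_conj r hinv m hconj, Surjective.of_comp r m⟩

/-- The morphism to the scheme-theoretic image is schematically dominant. -/
theorem isSchemeTheoreticallyDominant_toImage {A B : Scheme.{u}} (f : A ⟶ B) [QuasiCompact f] :
    IsSchemeTheoreticallyDominant f.toImage := by
  refine ⟨?_⟩
  refine Scheme.IdealSheafData.ext_of_iSup_eq_top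
    (fun U : B.affineOpens => ⟨f.imageι ⁻¹ᵁ U.1, U.2.preimage f.imageι⟩) ?_ fun U => ?_
  · simp only [← Scheme.Hom.preimage_iSup, iSup_affineOpens_eq_top]
    rfl
  · rw [Scheme.Hom.ker_apply, Scheme.IdealSheafData.ideal_bot,
      (RingHom.injective_iff_ker_eq_bot _).1 (Scheme.Hom.toImage_app_injective f U)]
    rfl

/-- `m` followed by an arbitrary map is schematically dominant only if `m` is. -/
theorem isSchemeTheoreticallyDominant_of_comp {A B C : Scheme.{u}} (r : A ⟶ B) (m : B ⟶ C)
    [h : IsSchemeTheoreticallyDominant (r ≫ m)] : IsSchemeTheoreticallyDominant m :=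
  ⟨le_bot_iff.1 ((Scheme.Hom.le_ker_comp r m).trans h.ker_eq_bot.le)⟩

end Groth.Agent.Fam20
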