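import Groth.Prelude.Def_CAlg2
import Mathlib.RingTheory.IntegralClosure.GoingDown
import Mathlib.RingTheory.Localization.Integral
import Mathlib.RingTheory.ZariskisMainTheorem
import Mathlib.RingTheory.Spectrum.Prime.Topology

/-!
Integral and quasi-finite extensions of domains with unibranch local rings induce open maps
on spectra (no noetherian hypothesis, no finite presentation).
-/

universe u

open Polynomial Topology

namespace Groth.Agent.Fam20

/-- Integral extensions of an integrally closed domain induce open maps. -/
theorem isOpenMap_comap_of_isIntegrallyClosed {R C : Type u} [CommRing R] [IsDomain R]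
    [IsIntegrallyClosed R] [CommRing C] [IsDomain C] [Algebra R C] [FaithfulSMul R C]
    [Algebra.IsIntegral R C] : IsOpenMap (PrimeSpectrum.comap (algebraMap R C)) := by
  refine PrimeSpectrum.isTopologicalBasis_basic_opens.isOpenMap_iff.mpr ?_
  rintro _ ⟨g, rfl⟩
  have hg : IsIntegral R g := Algebra.IsIntegral.isIntegral g
  have himg : PrimeSpectrum.comap (algebraMap R C) '' (PrimeSpectrum.basicOpen g : Set (PrimeSpectrum C)) =
      ⋃ i ∈ Finset.range (minpoly R g).natDegree,
        (PrimeSpectrum.basicOpen ((minpoly R g).coeff i) : Set (PrimeSpectrum R)) := by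
    ext p
    simp only [Set.mem_image, Set.mem_iUnion, SetLike.mem_coe, PrimeSpectrum.mem_basicOpen,
      Finset.mem_range, exists_prop]
    constructor
    · rintro ⟨P, hgP, rfl⟩
      by_contra! H
      have hpow : g ^ (minpoly R g).natDegree ∈ P.asIdeal := by
        have h0 := minpoly.aeval R g
        rw [aeval_eq_sum_range, Finset.sum_range_succ, (minpoly.monic hg).coeff_natDegree,
          one_smul] at h0
        rw [eq_neg_of_add_eq_zero_right h0]
        refine P.asIdeal.neg_mem (Ideal.sum_mem _ fun i hi => ?_)
        rw [Algebra.smul_def]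
        exact P.asIdeal.mul_mem_right _ (H i (Finset.mem_range.1 hi))
      exact hgP (P.2.mem_of_pow_mem _ hpow)
    · rintro ⟨i, hi, hip⟩
      let T : Submonoid C :=
        p.asIdeal.primeCompl.map (algebraMap R C) ⊔ Submonoid.powers g
      have hdisj : Disjoint (p.asIdeal.map (algebraMap R C) : Set C) T := by
        rw [Set.disjoint_left]
        intro z hz hzT
        obtain ⟨_, ⟨x, hx, rfl⟩, _, ⟨n, rfl⟩, rfl⟩ := Submonoid.mem_sup.1 hzT
        have hy : (x • g) ^ (n + 1) ∈ p.asIdeal.map (algebraMap R C) := by
          have h1 := Ideal.mul_mem_right ((algebraMap R C x) ^ n * g) _ hz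
          convert h1 using 1
          rw [Algebra.smul_def]
          ring
        obtain ⟨f, hfm, hfa, hf⟩ := exists_monic_aeval_eq_zero_forall_mem_of_mem_map hy
        have hfa' : aeval (x • g) (expand R (n + 1) f) = 0 := by
          rw [expand_aeval, hfa]
        have hfm' : (expand R (n + 1) f).Monic := hfm.expand n.succ_pos
        have hxg : IsIntegral R (x • g) := Algebra.IsIntegral.isIntegral _
        have hx0 : x ≠ 0 := fun h => hx (by rw [h]; exact p.asIdeal.zero_mem)
        have hmin := IsIntegrallyClosed.minpoly_smul hx0 hg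
        have hne : i ≠ (minpoly R (x • g)).natDegree := by
          rw [hmin, natDegree_scaleRoots]; exact hi.ne
        have hr := Polynomial.coeff_mem_radical_span_coeff_of_dvd _ _ hfm' (minpoly.monic hxg)
          (minpoly.isIntegrallyClosed_dvd hxg hfa') i hne
        have hspan : (Ideal.span {(expand R (n + 1) f).coeff j | j < (expand R (n + 1) f).natDegree}).radical
            ≤ p.asIdeal := by
          refine p.2.radical_le_iff.2 (Ideal.span_le.2 ?_)
          rintro _ ⟨j, hj, rfl⟩
          rw [natDegree_expand] at hj
          rw [SetLike.mem_coe, coeff_expand n.succ_pos]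
          split_ifs with hd
          · obtain ⟨k, rfl⟩ := hd
            rw [Nat.mul_div_cancel_left _ n.succ_pos]
            refine hf k fun hk => ?_
            rw [hk, mul_comm] at hj
            exact lt_irrefl _ hj
          · exact p.asIdeal.zero_mem
        have hc := hspan hr
        rw [hmin, coeff_scaleRoots] at hc
        rcases p.2.mem_or_mem hc with h | h
        · exact hip h
        · exact hx (p.2.mem_of_pow_mem _ h)
      obtain ⟨P, hP, hpP, hPT⟩ := Ideal.exists_le_prime_disjoint _ T hdisj
      refine ⟨⟨P, hP⟩, fun h => Set.disjoint_left.1 hPT h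
        (Submonoid.mem_sup_right (Submonoid.mem_powers g)), PrimeSpectrum.ext (le_antisymm ?_ ?_)⟩
      · intro x hxP
        by_contra hx
        exact Set.disjoint_left.1 hPT hxP (Submonoid.mem_sup_left ⟨x, hx, rfl⟩)
      · exact Ideal.map_le_iff_le_comap.1 hpP
  rw [himg]
  exact isOpen_biUnion fun i _ => (PrimeSpectrum.basicOpen _).isOpen

section

variable {A : Type u} [CommRing A] [IsDomain A]

/-- The integral closure of a unibranch local domain in its fraction field is local. -/
theorem isLocalRing_integralClosure [IsLocalRing A] (hA : CAlg2.IsUnibranch A) (K : Type u)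
    [Field K] [Algebra A K] [IsFractionRing A K] : IsLocalRing (integralClosure A K) := by
  obtain ⟨hdom, hloc⟩ := hA
  let D := CAlg2.red A
  have hnil : nilradical A = ⊥ := nilradical_eq_zero A
  let d : D ≃+* A := (Ideal.quotEquivOfEq hnil).trans (RingEquiv.quotientBot A)
  have hd : ∀ a, d (algebraMap A D a) = a := fun a => rfl
  let _ : Algebra D K := ((algebraMap A K).comp d.toRingHom).toAlgebra
  have : IsScalarTower A D K := IsScalarTower.of_algebraMap_eq fun a =>
    congrArg (algebraMap A K) (hd a).symm
  have hfrac : IsFractionRing D K := by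
    refine IsFractionRing.of_ringEquiv_left (S := A) d ?_
    intro x
    rfl
  let e : FractionRing D ≃ₐ[D] K := FractionRing.algEquiv D K
  have : Algebra.IsIntegral A D := ⟨fun z => by
    obtain ⟨a, rfl⟩ := Ideal.Quotient.mk_surjective z
    exact isIntegral_algebraMap⟩
  let g : CAlg2.normRed A →+* integralClosure A K :=
    { toFun := fun y => ⟨e y.1, isIntegral_trans (R := A) (A := D) _ (y.2.map e.toAlgHom)⟩
      map_one' := Subtype.ext (map_one e)
      map_zero' := Subtype.ext (map_zero e)
      map_add' := fun a b => Subtype.ext (map_add e a.1 b.1)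
      map_mul' := fun a b => Subtype.ext (map_mul e a.1 b.1) }
  refine IsLocalRing.of_surjective' g fun x => ?_
  exact ⟨⟨e.symm x.1, (IsIntegral.tower_top (A := D) x.2).map e.symm.toAlgHom⟩,
    Subtype.ext (e.apply_symm_apply x.1)⟩

/-- The normalisation of a domain with unibranch local rings is injective on spectra. -/
theorem injective_comap_integralClosure
    (hA : ∀ p : Ideal A, [p.IsPrime] → CAlg2.IsUnibranch (Localization.AtPrime p)) :
    Function.Injective
      (PrimeSpectrum.comap (algebraMap A (integralClosure A (FractionRing A)))) := by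
  let K := FractionRing A
  intro n₁ n₂ h
  obtain ⟨p, hp⟩ : ∃ p, p = PrimeSpectrum.comap (algebraMap A (integralClosure A K)) n₁ := ⟨_, rfl⟩
  let Ap := Localization.AtPrime p.asIdeal
  have hle : p.asIdeal.primeCompl ≤ nonZeroDivisors A := fun x hx =>
    mem_nonZeroDivisors_of_ne_zero fun h0 => hx (by rw [h0]; exact p.asIdeal.zero_mem)
  have : IsDomain Ap := IsLocalization.isDomain_localization hle
  let _ : Algebra Ap K :=
    (IsLocalization.lift (S := Ap) (M := p.asIdeal.primeCompl) (g := algebraMap A K) fun y =>
      IsUnit.mk0 _ (IsFractionRing.to_map_ne_zero_of_mem_nonZeroDivisors (hle y.2))).toAlgebra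
  have : IsScalarTower A Ap K :=
    IsScalarTower.of_algebraMap_eq fun a => (IsLocalization.lift_eq _ a).symm
  have : IsFractionRing Ap K :=
    IsFractionRing.isFractionRing_of_isDomain_of_isLocalization p.asIdeal.primeCompl Ap K
  have := isLocalRing_integralClosure (hA p.asIdeal) K
  let S := integralClosure Ap K
  let ι : integralClosure A K →+* S :=
    { toFun := fun y => ⟨y.1, IsIntegral.tower_top y.2⟩
      map_one' := rfl
      map_zero' := rfl
      map_add' := fun _ _ => rfl
      map_mul' := fun _ _ => rfl }
  suffices key : ∀ n : PrimeSpectrum (integralClosure A K),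
      PrimeSpectrum.comap (algebraMap A (integralClosure A K)) n = p →
      n.asIdeal = (IsLocalRing.maximalIdeal S).comap ι from
    PrimeSpectrum.ext ((key n₁ hp.symm).trans (key n₂ (h.symm.trans hp.symm)).symm)
  intro n hn
  have hnp : n.asIdeal.comap (algebraMap A (integralClosure A K)) = p.asIdeal :=
    congrArg PrimeSpectrum.asIdeal hn
  let N : Ideal S :=
    { carrier := {z | ∃ s : A, s ∉ p.asIdeal ∧ ∃ a ∈ n.asIdeal, algebraMap A S s * z = ι a}
      add_mem' := by
        rintro z z' ⟨s, hs, a, ha, h⟩ ⟨s', hs', a', ha', h'⟩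
        refine ⟨s * s', fun hss => (p.2.mem_or_mem hss).elim hs hs',
          algebraMap A _ s' * a + algebraMap A _ s * a',
          add_mem (n.asIdeal.mul_mem_left _ ha) (n.asIdeal.mul_mem_left _ ha'), ?_⟩
        rw [map_add, map_mul ι, map_mul ι, ← h, ← h', map_mul,
          show ι (algebraMap A _ s) = algebraMap A S s from
            Subtype.ext (by rfl),
          show ι (algebraMap A _ s') = algebraMap A S s' from
            Subtype.ext (by rfl)]
        ring
      zero_mem' := ⟨1, fun h1 => p.2.ne_top ((Ideal.eq_top_iff_one _).2 h1), 0, zero_mem _,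
        by simp⟩
      smul_mem' := by
        rintro c z ⟨s, hs, a, ha, h⟩
        obtain ⟨⟨t, ht⟩, htc⟩ := IsIntegral.exists_multiple_integral_of_isLocalization
          p.asIdeal.primeCompl c.1 c.2
        refine ⟨t * s, fun hts => (p.2.mem_or_mem hts).elim ht hs, ⟨_, htc⟩ * a,
          n.asIdeal.mul_mem_left _ ha, ?_⟩
        rw [map_mul ι, ← h, map_mul, smul_eq_mul]
        have : ι ⟨_, htc⟩ = algebraMap A S t * c := Subtype.ext <| by
          show t • c.1 = _
          rw [Algebra.smul_def]
          rfl
        rw [this]
        ring }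
  have hN : N ≠ ⊤ := fun h => by
    obtain ⟨s, hs, a, ha, h1⟩ := (Ideal.eq_top_iff_one N).1 h
    rw [mul_one] at h1
    have ha' : a = algebraMap A _ s := Subtype.ext <| by
      have h2 := congrArg Subtype.val h1
      exact h2.symm
    exact hs (hnp.le (by rw [ha'] at ha; exact ha))
  have hnm : n.asIdeal ≤ (IsLocalRing.maximalIdeal S).comap ι := fun a ha =>
    IsLocalRing.le_maximalIdeal hN ⟨1, fun h1 => p.2.ne_top ((Ideal.eq_top_iff_one _).2 h1),
      a, ha, by simp⟩
  refine eq_of_le_of_not_lt hnm fun hlt => ?_
  have hmA : ((IsLocalRing.maximalIdeal S).comap (algebraMap Ap S)).IsMaximal :=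
    Ideal.isMaximal_comap_of_isIntegral_of_isMaximal _
  have hcon : ((IsLocalRing.maximalIdeal S).comap ι).comap (algebraMap A (integralClosure A K)) =
      p.asIdeal := by
    refine Eq.trans ?_ (Localization.AtPrime.under_maximalIdeal (I := p.asIdeal))
    rw [← IsLocalRing.eq_maximalIdeal hmA, Ideal.under_def, Ideal.comap_comap, Ideal.comap_comap]
    congr 1
    exact RingHom.ext fun a => Subtype.ext (IsScalarTower.algebraMap_apply A Ap K a)
  have hlt' := Ideal.IsIntegral.comap_lt_comap (R := A) hlt
  rw [hnp, hcon] at hlt'
  exact lt_irrefl _ hlt'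

/-- An integral extension of domains whose base has unibranch local rings induces an open map. -/
theorem isOpenMap_comap_of_unibranch
    (hA : ∀ p : Ideal A, [p.IsPrime] → CAlg2.IsUnibranch (Localization.AtPrime p))
    {C : Type u} [CommRing C] [IsDomain C] [Algebra A C] [FaithfulSMul A C]
    [Algebra.IsIntegral A C] : IsOpenMap (PrimeSpectrum.comap (algebraMap A C)) := by
  let K := FractionRing A
  let L := FractionRing C
  let _ : Algebra K L := FractionRing.liftAlgebra A L
  let A' := integralClosure A K
  let C' := integralClosure A L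
  let _ : Algebra A' C' :=
    ((IsScalarTower.toAlgHom A K L).mapIntegralClosure).toRingHom.toAlgebra
  have : IsScalarTower A A' C' := IsScalarTower.of_algebraMap_eq fun a =>
    ((IsScalarTower.toAlgHom A K L).mapIntegralClosure.commutes a).symm
  have : Algebra.IsIntegral A' C' := Algebra.IsIntegral.tower_top A
  have : FaithfulSMul A' C' := by
    rw [faithfulSMul_iff_algebraMap_injective]
    intro a b hab
    exact Subtype.ext ((algebraMap K L).injective (congrArg Subtype.val hab))
  have : IsFractionRing A' K :=
    integralClosure.isFractionRing_of_finite_extension (A := A) K K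
  have : IsIntegrallyClosed A' := by
    rw [isIntegrallyClosed_iff (R := A') (K := K)]
    intro x hx
    exact ⟨⟨x, isIntegral_trans (R := A) x hx⟩, rfl⟩
  let _ : Algebra C C' := ((IsScalarTower.toAlgHom A C L).codRestrict C'
    (fun x => (Algebra.IsIntegral.isIntegral x).map _)).toRingHom.toAlgebra
  have : IsScalarTower A C C' := IsScalarTower.of_algebraMap_eq fun a =>
    Subtype.ext (IsScalarTower.algebraMap_apply A C L a)
  have : Algebra.IsIntegral C C' := Algebra.IsIntegral.tower_top A
  have hCC' : Function.Injective (algebraMap C C') := fun a b hab =>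
    IsFractionRing.injective C L (congrArg Subtype.val hab)
  have : FaithfulSMul C C' := (faithfulSMul_iff_algebraMap_injective _ _).2 hCC'
  have hsurj : Function.Surjective (PrimeSpectrum.comap (algebraMap C C')) := fun P => by
    obtain ⟨Q, -, hQ, hQP⟩ := Ideal.exists_ideal_over_prime_of_isIntegral P.asIdeal (⊥ : Ideal C')
      (by rw [← RingHom.ker_eq_comap_bot, (RingHom.injective_iff_ker_eq_bot _).1 hCC']; exact bot_le)
    exact ⟨⟨Q, hQ⟩, PrimeSpectrum.ext hQP⟩
  have : FaithfulSMul A A' := by
    rw [faithfulSMul_iff_algebraMap_injective]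
    exact fun a b h => IsFractionRing.injective A K (congrArg Subtype.val h)
  have hsurjA : Function.Surjective (PrimeSpectrum.comap (algebraMap A A')) := fun P => by
    obtain ⟨Q, -, hQ, hQP⟩ := Ideal.exists_ideal_over_prime_of_isIntegral P.asIdeal (⊥ : Ideal A')
      (by rw [← RingHom.ker_eq_comap_bot,
        (RingHom.injective_iff_ker_eq_bot _).1 (FaithfulSMul.algebraMap_injective A A')]; exact bot_le)
    exact ⟨⟨Q, hQ⟩, PrimeSpectrum.ext hQP⟩
  have hA' : IsOpenMap (PrimeSpectrum.comap (algebraMap A A')) := by
    intro U hU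
    have hcl : IsClosedMap (PrimeSpectrum.comap (algebraMap A A')) :=
      PrimeSpectrum.isClosedMap_comap_of_isIntegral _ (algebraMap_isIntegral_iff.2 inferInstance)
    rw [← isClosed_compl_iff, ← Set.image_compl_eq ⟨injective_comap_integralClosure hA, hsurjA⟩]
    exact hcl _ hU.isClosed_compl
  intro U hU
  rw [← Set.image_preimage_eq U hsurj, ← Set.image_comp]
  have hcomp : PrimeSpectrum.comap (algebraMap A C) ∘ PrimeSpectrum.comap (algebraMap C C') =
      PrimeSpectrum.comap (algebraMap A A') ∘ PrimeSpectrum.comap (algebraMap A' C') := by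
    ext x : 1
    simp only [Function.comp_apply, ← PrimeSpectrum.comap_comp_apply,
      ← IsScalarTower.algebraMap_eq]
  rw [hcomp]
  exact (hA'.comp isOpenMap_comap_of_isIntegrallyClosed) _
    (hU.preimage (PrimeSpectrum.continuous_comap _))

/-- A quasi-finite extension of domains whose base has unibranch local rings is open at the
point. -/
theorem image_mem_nhds_of_quasiFiniteAt
    (hA : ∀ p : Ideal A, [p.IsPrime] → CAlg2.IsUnibranch (Localization.AtPrime p))
    {D : Type u} [CommRing D] [IsDomain D] [Algebra A D] [Algebra.FiniteType A D]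
    (hinj : Function.Injective (algebraMap A D)) (Q : PrimeSpectrum D)
    [Algebra.QuasiFiniteAt A Q.asIdeal] {U : Set (PrimeSpectrum D)} (hU : U ∈ 𝓝 Q) :
    PrimeSpectrum.comap (algebraMap A D) '' U ∈ 𝓝 (PrimeSpectrum.comap (algebraMap A D) Q) := by
  obtain ⟨S', hfg, r, hrQ, hbij⟩ :=
    Algebra.QuasiFiniteAt.exists_fg_and_exists_notMem_and_awayMap_bijective (R := A) Q.asIdeal
  have : Module.Finite A S' := ⟨(Submodule.fg_top _).mpr hfg⟩
  have : FaithfulSMul A S' := (faithfulSMul_iff_algebraMap_injective _ _).2
    fun a b hab => hinj (congrArg Subtype.val hab)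
  let v : S' →+* D := S'.val.toRingHom
  let Sr := Localization.Away r
  let Dr := Localization.Away (v r)
  let w : Sr →+* Dr := Localization.awayMap v r
  have hsq : w.comp (algebraMap S' Sr) = (algebraMap D Dr).comp v :=
    RingHom.ext fun x => by
      simp only [w, IsLocalization.Away.map, RingHom.comp_apply]
      exact IsLocalization.map_eq _ x
  have hw : IsOpenMap (PrimeSpectrum.comap w) :=
    (PrimeSpectrum.homeomorphOfRingEquiv (RingEquiv.ofBijective w hbij)).symm.isOpenMap
  obtain ⟨V, hVU, hV, hQV⟩ := mem_nhds_iff.1 hU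
  have hopen : IsOpen (PrimeSpectrum.comap (algebraMap A D) ''
      (V ∩ PrimeSpectrum.basicOpen (v r))) := by
    have hr : Set.range (PrimeSpectrum.comap (algebraMap D Dr)) =
        (PrimeSpectrum.basicOpen (v r) : Set (PrimeSpectrum D)) :=
      PrimeSpectrum.localization_away_comap_range Dr (v r)
    rw [← hr, ← Set.image_preimage_eq_inter_range, ← Set.image_comp,
      show PrimeSpectrum.comap (algebraMap A D) ∘ PrimeSpectrum.comap (algebraMap D Dr) =
          PrimeSpectrum.comap (algebraMap A S') ∘
            (PrimeSpectrum.comap (algebraMap S' Sr) ∘ PrimeSpectrum.comap w) from funext fun x => by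
        simp only [Function.comp_apply, ← PrimeSpectrum.comap_comp_apply, hsq]
        rfl]
    exact ((isOpenMap_comap_of_unibranch hA).comp
      (((PrimeSpectrum.localization_away_isOpenEmbedding Sr r).isOpenMap).comp hw)) _
      (hV.preimage (PrimeSpectrum.continuous_comap _))
  exact mem_nhds_iff.2 ⟨_, Set.image_mono (Set.inter_subset_left.trans hVU), hopen,
    Q, ⟨hQV, hrQ⟩, rfl⟩

end

end Groth.Agent.Fam20
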