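import Groth.Agent.E4O.Chevalley
import Groth.Agent.Fam20.UnibranchOpen
import Mathlib.RingTheory.Spectrum.Prime.Polynomial

/-!
EGA IV 14.4.4 without noetherian or finite presentation hypotheses: openness (after any polynomial
base change) at a maximal point of a fibre whose transcendence degree does not exceed the generic
one, for finite type extensions of domains with geometrically unibranch local rings.

The construction of the quasi-finite map to affine space is the one of `E4O.Chevalley`.
-/

universe u

open MvPolynomial Topology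
open scoped TensorProduct

namespace Groth.Agent.Fam20

open Groth.Agent.E4O

attribute [local instance] MvPolynomial.algebraMvPolynomial

theorem image_mem_nhds_of_domain {A B : Type u} [CommRing A] [IsDomain A]
    [CommRing B] [IsDomain B] [Algebra A B] [Algebra.FiniteType A B]
    (hA : ∀ p : Ideal A, [p.IsPrime] → CAlg2.IsGeomUnibranch (Localization.AtPrime p))
    (hinj : Function.Injective (algebraMap A B)) (q : Ideal B) [q.IsPrime]
    (hmax : ∀ q' : Ideal B, q'.IsPrime → q' ≤ q → q'.under A = q.under A → q' = q)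
    (hdeg : Algebra.trdeg (A ⧸ q.under A) (B ⧸ q) ≤ Algebra.trdeg A B)
    (σ : Type u) (Qx : PrimeSpectrum (MvPolynomial σ B)) (hQx : Qx.asIdeal.comap C = q)
    {U : Set (PrimeSpectrum (MvPolynomial σ B))} (hU : U ∈ 𝓝 Qx) :
    PrimeSpectrum.comap (MvPolynomial.map (algebraMap A B)) '' U ∈
      𝓝 (PrimeSpectrum.comap (MvPolynomial.map (algebraMap A B)) Qx) := by
  let Q := Qx.asIdeal
  have hQ : Q.comap C = q := hQx
  have : FaithfulSMul A B := (faithfulSMul_iff_algebraMap_injective A B).2 hinj
  have : FaithfulSMul (A ⧸ q.under A) (B ⧸ q) := (faithfulSMul_iff_algebraMap_injective _ _).2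
    Ideal.algebraMap_quotient_injective
  obtain ⟨ι, x, hx⟩ := exists_isTranscendenceBasis' (A ⧸ q.under A) (B ⧸ q)
  have hcard := hx.cardinalMk_eq_trdeg
  have : Algebra.FiniteType A (B ⧸ q) :=
    Algebra.FiniteType.of_surjective (Ideal.Quotient.mkₐ A q) Ideal.Quotient.mk_surjective
  have : Algebra.FiniteType (A ⧸ q.under A) (B ⧸ q) := .of_restrictScalars_finiteType A _ _
  have : Finite ι := Cardinal.mk_lt_aleph0_iff.1 (hcard ▸ trdeg_lt_aleph0_of_finiteType)
  choose t ht using fun i => Ideal.Quotient.mk_surjective (x i)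
  have htx : Ideal.Quotient.mk q ∘ t = x := funext ht
  let T : MvPolynomial ι A →ₐ[A] B := MvPolynomial.aeval t
  algebraize [T.toRingHom]
  have : IsScalarTower A (MvPolynomial ι A) B :=
    IsScalarTower.of_algebraMap_eq fun a => (T.commutes a).symm
  have hft : Algebra.FiniteType (MvPolynomial ι A) B := .of_restrictScalars_finiteType A _ _
  let P : Ideal (MvPolynomial ι A) := q.comap T.toRingHom
  have hPA : P.comap C = q.under A := by
    rw [Ideal.comap_comap, Ideal.under_def]
    congr 1
    exact T.comp_algebraMap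
  -- `q` is isolated in its fibre over `A[t]`
  have huniq : ∀ r : Ideal B, r.IsPrime → r.comap T.toRingHom = P → (q ≤ r ∨ r ≤ q) → r = q := by
    intro r hr hrP h
    rcases h with h | h
    · exact eq_of_le_of_isAlgebraic_mod q r h t (htx.symm ▸ hx.isAlgebraic) hrP.le
    · refine hmax r hr h ?_
      rw [Ideal.under_def, ← T.comp_algebraMap, ← Ideal.comap_comap]
      exact (congrArg (Ideal.comap C) hrP).trans hPA
  have hqf : Algebra.QuasiFiniteAt (MvPolynomial ι A) q := by
    refine Algebra.QuasiFiniteAt.of_isOpen_singleton_fiber ⟨q, inferInstance⟩ ?_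
    let p' := PrimeSpectrum.comap (algebraMap (MvPolynomial ι A) B) ⟨q, inferInstance⟩
    let o := PrimeSpectrum.preimageOrderIsoFiber (MvPolynomial ι A) B p'
    let e := PrimeSpectrum.preimageHomeomorphFiber (MvPolynomial ι A) B p'
    have : IsNoetherianRing (p'.asIdeal.Fiber B) :=
      Algebra.FiniteType.isNoetherianRing p'.asIdeal.ResidueField _
    have : IsJacobsonRing (p'.asIdeal.Fiber B) :=
      isJacobsonRing_of_finiteType (A := p'.asIdeal.ResidueField)
    rw [← e.isOpen_image, Set.image_singleton]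
    refine ((PrimeSpectrum.isOpen_singleton_tfae_of_isNoetherian_of_isJacobsonRing _).out 0 2 rfl rfl).2
      ⟨?_, ?_⟩
    · rw [PrimeSpectrum.isClosed_singleton_iff_isMaximal, ← PrimeSpectrum.isMax_iff]
      intro r hr
      obtain ⟨⟨r, hr'⟩, rfl⟩ := o.surjective r
      have hle : q ≤ r.asIdeal := (o.le_iff_le (x := ⟨⟨q, inferInstance⟩, rfl⟩) (y := ⟨r, hr'⟩)).1 hr
      refine (o.le_iff_le (x := ⟨r, hr'⟩) (y := ⟨⟨q, inferInstance⟩, rfl⟩)).2 ?_
      exact (huniq r.asIdeal r.2 (congrArg PrimeSpectrum.asIdeal hr') (Or.inl hle)).le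
    · intro a r hra ha
      obtain rfl := Set.mem_singleton_iff.1 ha
      have hr := (PrimeSpectrum.le_iff_specializes _ _).2 hra
      show r = _
      refine le_antisymm hr ?_
      obtain ⟨⟨r, hr'⟩, rfl⟩ := o.surjective r
      have hle : r.asIdeal ≤ q := (o.le_iff_le (x := ⟨r, hr'⟩) (y := ⟨⟨q, inferInstance⟩, rfl⟩)).1 hr
      refine (o.le_iff_le (x := ⟨⟨q, inferInstance⟩, rfl⟩) (y := ⟨r, hr'⟩)).2 ?_
      exact (huniq r.asIdeal r.2 (congrArg PrimeSpectrum.asIdeal hr') (Or.inr hle)).ge
  -- `t` is algebraically independent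
  have halg : Algebra.IsAlgebraic (Algebra.adjoin A (Set.range t)) B := by
    obtain ⟨S', hS', r₀, hr₀q, hbij⟩ :=
      Algebra.QuasiFiniteAt.exists_fg_and_exists_notMem_and_awayMap_bijective
        (R := MvPolynomial ι A) q
    have : Module.Finite (MvPolynomial ι A) S' := ⟨(Submodule.fg_top _).mpr hS'⟩
    have hint : ∀ y ∈ S', IsIntegral (Algebra.adjoin A (Set.range t)) y := fun y hy => by
      have h1 : IsIntegral (MvPolynomial ι A) y :=
        (Algebra.IsIntegral.isIntegral (R := MvPolynomial ι A) (⟨y, hy⟩ : S')).map S'.val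
      refine h1.map_of_comp_eq (T.toRingHom.codRestrict _ fun z => ?_) (RingHom.id B) rfl
      rw [Algebra.adjoin_range_eq_range_aeval]
      exact ⟨z, rfl⟩
    refine ⟨fun β => ?_⟩
    obtain ⟨z, hz⟩ := hbij.2 (algebraMap B _ β)
    obtain ⟨n, ⟨y, hy⟩, hzy⟩ := IsLocalization.Away.surj r₀ z
    have hr0 : r₀.1 ≠ 0 := fun h => hr₀q (by show r₀.1 ∈ q; rw [h]; exact q.zero_mem)
    have key : algebraMap B (Localization.Away (S'.val.toRingHom r₀)) (β * r₀.1 ^ n) =
        algebraMap B _ y := by
      have := congrArg (Localization.awayMap S'.val.toRingHom r₀) hzy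
      rw [map_mul, map_pow, hz] at this
      simp only [Localization.awayMap, IsLocalization.Away.map, IsLocalization.map_eq] at this
      rw [map_mul, map_pow]
      exact this
    have key' : β * r₀.1 ^ n = y :=
      IsLocalization.injective (M := Submonoid.powers (S'.val.toRingHom r₀)) _
        (powers_le_nonZeroDivisors_of_noZeroDivisors hr0) key
    refine IsAlgebraic.of_mul (y := r₀.1 ^ n)
      (mem_nonZeroDivisors_of_ne_zero (pow_ne_zero n hr0)) ((hint _ r₀.2).pow n).isAlgebraic ?_
    rw [mul_comm, key']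
    exact (hint y hy).isAlgebraic
  have hTinj : Function.Injective T :=
    (Algebra.IsAlgebraic.isTranscendenceBasis_of_le_trdeg_of_finite A t (hcard ▸ hdeg)).1
  -- unibranchness after base change
  let R := MvPolynomial σ (MvPolynomial ι A)
  have hR : ∀ P₂ : Ideal R, [P₂.IsPrime] → CAlg2.IsUnibranch (Localization.AtPrime P₂) := by
    intro P₂ _
    let P₁ : Ideal (MvPolynomial ι A) := P₂.comap C
    exact (isGeomUnibranch_mvPolynomial P₁ (Localization.AtPrime P₁)
      (isGeomUnibranch_mvPolynomial (P₁.comap C) (Localization.AtPrime (P₁.comap C)) (hA _) ι P₁ rfl _)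
      σ P₂ rfl _).1
  -- quasi-finiteness after base change
  let e : MvPolynomial σ (MvPolynomial ι A) ⊗[MvPolynomial ι A] B ≃ₐ[MvPolynomial σ (MvPolynomial ι A)]
      MvPolynomial σ B := Algebra.IsPushout.equiv (MvPolynomial ι A) _ B _
  have hftσ : Algebra.FiniteType (MvPolynomial σ (MvPolynomial ι A)) (MvPolynomial σ B) :=
    Algebra.FiniteType.equiv inferInstance e
  have hqfQ : Algebra.QuasiFiniteAt (MvPolynomial σ (MvPolynomial ι A)) Q := by
    let Q' := Q.comap e.toAlgHom.toRingHom
    have hQ' : Q'.IsPrime := Ideal.IsPrime.comap _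
    have hq' : q = Q'.comap
        Algebra.TensorProduct.includeRight.toRingHom := by
      rw [← hQ, Ideal.comap_comap]
      congr 1
      exact RingHom.ext fun b => ((Algebra.IsPushout.equiv_tmul (MvPolynomial ι A)
        (MvPolynomial σ (MvPolynomial ι A)) B (MvPolynomial σ B) 1 b).trans (by rw [map_one, one_mul]; rfl)).symm
    have := Algebra.QuasiFiniteAt.baseChange q Q' hq'
    exact Algebra.QuasiFiniteAt.of_surjectiveOnStalks (R := MvPolynomial σ (MvPolynomial ι A))
      (S := MvPolynomial σ (MvPolynomial ι A) ⊗[MvPolynomial ι A] B) (T := MvPolynomial σ B) Q' e.toAlgHom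
      (RingHom.surjectiveOnStalks_of_surjective e.surjective) Q rfl
  -- openness
  have hinjR : Function.Injective (algebraMap R (MvPolynomial σ B)) :=
    MvPolynomial.map_injective _ hTinj
  have : Algebra.QuasiFiniteAt R Qx.asIdeal := hqfQ
  have h1 := image_mem_nhds_of_quasiFiniteAt hR hinjR Qx hU
  let M : MvPolynomial σ A →+* R := MvPolynomial.map C
  let c := (MvPolynomial.commAlgEquiv A σ ι).toRingEquiv
  have hMc : c.toRingHom.comp M = C := by
    refine RingHom.ext fun g => ?_
    show MvPolynomial.commAlgEquiv A σ ι (MvPolynomial.map C g) = C g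
    rw [← MvPolynomial.commAlgEquiv_C]
    exact (AlgEquiv.apply_symm_apply _ _).trans rfl
  have hM : IsOpenMap (PrimeSpectrum.comap M) := by
    have hM' : M = c.symm.toRingHom.comp C := by
      rw [← hMc]
      exact RingHom.ext fun g => (c.symm_apply_apply _).symm
    rw [hM', PrimeSpectrum.comap_comp]
    exact IsOpenMap.comp (MvPolynomial.isOpenMap_comap_C)
      (PrimeSpectrum.homeomorphOfRingEquiv c.symm).symm.isOpenMap
  have hmapA : (algebraMap R (MvPolynomial σ B)).comp M =
      MvPolynomial.map (σ := σ) (algebraMap A B) :=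
    RingHom.ext fun g => by
      show MvPolynomial.map (algebraMap (MvPolynomial ι A) B) (MvPolynomial.map C g) = _
      rw [MvPolynomial.map_map]
      congr 2
      exact (IsScalarTower.algebraMap_eq A (MvPolynomial ι A) B).symm
  rw [← hmapA, PrimeSpectrum.comap_comp]
  show (PrimeSpectrum.comap M ∘ PrimeSpectrum.comap (algebraMap R (MvPolynomial σ B))) '' U ∈ _
  rw [Set.image_comp]
  exact hM.image_mem_nhds h1

end Groth.Agent.Fam20
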