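import Groth.Agent.E4O.Subscheme
import Groth.Agent.E4O.ChartDim
import Groth.Agent.E4O.ValuationLift
import Groth.Agent.E4O.FibreSets
import Groth.Prelude.Def_EGA43

/-! Irreducible components equidimensional over the base. -/

universe u

open CategoryTheory AlgebraicGeometry TopologicalSpace Topology Groth.Agent.E4O

namespace Groth.Agent.Fam20

variable {X S : Scheme.{u}} (f : X ⟶ S) [LocallyOfFiniteType f]

/-- `f` has an irreducible component through `x` equidimensional at `x`. -/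
def HasEquidimComponent (x : X) : Prop :=
  ∃ W : TopologicalSpace.Closeds X, (W : Set X) ∈ irreducibleComponents (X : Type u) ∧
    ∃ w : ↥((Scheme.IdealSheafData.vanishingIdeal W).subscheme),
      (Scheme.IdealSheafData.vanishingIdeal W).subschemeι.base w = x ∧
      EGA43.IsEquidimAt ((Scheme.IdealSheafData.vanishingIdeal W).subschemeι ≫ f) w

theorem specializes_of_component {α : Type*} [TopologicalSpace α] [QuasiSober α] [T0Space α]
    {Z : Set α} (hZ : Z ∈ irreducibleComponents α) :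
    ∃ ξ, Z = closure {ξ} ∧ ∀ z', z' ⤳ ξ → z' = ξ :=
  exists_eq_closure_of_mem_irreducibleComponents hZ

/-- A component whose generic fibre bounds the fibre through `x` is equidimensional at `x`. -/
theorem hasEquidimComponent_of {x ξ : X} (hξx : ξ ⤳ x) (hξ : ∀ z', z' ⤳ ξ → z' = ξ)
    (hη : closure {f ξ} ∈ irreducibleComponents (S : Type u))
    (hle : ∀ z, ξ ⤳ z → z ⤳ x → f z = f x → fdeg f z ≤ fdeg f ξ) :
    HasEquidimComponent f x := by
  let W : TopologicalSpace.Closeds X := ⟨closure {ξ}, isClosed_closure⟩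
  let i := (Scheme.IdealSheafData.vanishingIdeal W).subschemeι
  have hr : Set.range i = closure {ξ} := SchBasics.range_vanishingIdeal_subschemeι W
  obtain ⟨w, hw⟩ : ∃ w, i w = x := hr.ge hξx.mem_closure
  obtain ⟨η, hηξ⟩ : ∃ η, i η = ξ := hr.ge (subset_closure rfl)
  refine ⟨W, closure_mem_irreducibleComponents hξ, w, hw, ?_⟩
  let g := i ≫ f
  have hemb : IsEmbedding i := i.isClosedEmbedding.isEmbedding
  have hgen : ∀ a, η ⤳ a := fun a => by
    rw [← hemb.isInducing.specializes_iff, hηξ, specializes_iff_mem_closure]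
    exact hr.le ⟨a, rfl⟩
  have hdeg : ∀ a, fdeg g a = fdeg f (i a) := fun a => fdeg_comp_closedImmersion i f a
  have hbound : FlatMor.fibreDimAt g w ≤ (fdeg g η : ℕ) := by
    obtain ⟨z, hz, hfz, hd, -, -⟩ := exists_fibreDimAt_eq g w
    rw [hd]
    have h1 : i η ⤳ i z := (hgen z).map i.continuous
    have h2 : i z ⤳ x := hw ▸ hz.map i.continuous
    have h3 : f (i z) = f x := by rw [← hw]; exact hfz
    rw [hηξ] at h1
    exact_mod_cast (by rw [hdeg, hdeg, hηξ]; exact hle _ h1 h2 h3 : fdeg g z ≤ fdeg g η)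
  obtain ⟨U, hwU, hU⟩ := exists_open_forall_fibreDimAt_le g w
  have hηU : η ∈ U := (hgen w).mem_open U.isOpen hwU
  refine ⟨fdeg g η, U, hwU, fun Z hZ => ?_, fun x' Z hZ => ?_⟩
  · refine ⟨_, hη, ?_, ?_⟩
    · show f (i w) ∈ closure {f ξ}
      rw [hw]
      exact (hξx.map f.continuous).mem_closure
    · have : QuasiSober ↥U := U.isOpen.isOpenEmbedding_subtypeVal.quasiSober
      obtain ⟨ζ, rfl, hζ⟩ := specializes_of_component hZ
      have hle' : (⟨η, hηU⟩ : U) ⤳ ζ := (subtype_specializes_iff _ _).2 (hgen ζ.1)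
      rw [← hζ _ hle']
      refine (closure_image_closure_singleton (U.ι ≫ g) (⟨η, hηU⟩ : U)).trans ?_
      show closure {f (i η)} = _
      rw [hηξ]
  · obtain ⟨z, -, hzmax, hzd⟩ := exists_of_mem_irreducibleComponents_fiber (U.ι ≫ g) hZ
    rw [hzd]
    set a := (U.ι ≫ g).fiberι ((U.ι ≫ g) x') z
    rw [fdeg_comp_openImmersion]
    have h1 : fdeg g (U.ι a) ≤ fdeg g η := by
      have := (fdeg_le_fibreDimAt (f := g) (x := U.ι a) (z := U.ι a) specializes_rfl rfl).trans
        ((hU _ a.2).trans hbound)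
      exact_mod_cast this
    have h2 : fdeg g η ≤ fdeg g (U.ι a) := by
      have h3 := fdeg_le_fibreDimAt_of_specializes (f := U.ι ≫ g)
        (ξ := (⟨η, hηU⟩ : U)) (x := a) ((subtype_specializes_iff _ _).2 (hgen a.1))
      rw [fibreDimAt_eq_fdeg (f := U.ι ≫ g) (x := a) hzmax, fdeg_comp_openImmersion U.ι g,
        fdeg_comp_openImmersion U.ι g] at h3
      exact_mod_cast h3
    rw [le_antisymm h1 h2]

/-- Reading off the generic point of an equidimensional component. -/
theorem exists_of_hasEquidimComponent {x : X} (h : HasEquidimComponent f x) :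
    ∃ ξ : X, ξ ⤳ x ∧ (∀ z', z' ⤳ ξ → z' = ξ) ∧
      closure {f ξ} ∈ irreducibleComponents (S : Type u) ∧
      ∀ z, ξ ⤳ z → z ⤳ x → f z = f x → fdeg f z ≤ fdeg f ξ := by
  obtain ⟨W, hW, w, hw, hequi⟩ := h
  obtain ⟨ξ, hWξ, hξ⟩ := specializes_of_component hW
  let i := (Scheme.IdealSheafData.vanishingIdeal W).subschemeι
  have hr : Set.range i = closure {ξ} := (SchBasics.range_vanishingIdeal_subschemeι W).trans hWξ
  have hxW : x ∈ closure ({ξ} : Set X) := hr.le ⟨w, hw⟩
  obtain ⟨η, hηξ⟩ : ∃ η, i η = ξ := hr.ge (subset_closure rfl)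
  have hemb : IsEmbedding i := i.isClosedEmbedding.isEmbedding
  obtain ⟨e, hd, -, hgen⟩ := exists_of_isEquidimAt (i ≫ f) hequi
  have hηw : η ⤳ w := by
    rw [← hemb.isInducing.specializes_iff, hηξ, hw]
    exact specializes_iff_mem_closure.2 hxW
  obtain ⟨hde, hcomp⟩ := hgen η hηw fun a ha => hemb.injective <| by
    rw [hηξ]
    exact hξ _ (hηξ ▸ ha.map i.continuous)
  rw [fdeg_comp_closedImmersion, hηξ] at hde
  refine ⟨ξ, specializes_iff_mem_closure.2 hxW, hξ, ?_, fun z hξz hzx hfz => ?_⟩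
  · have : (i ≫ f) η = f ξ := by rw [← hηξ]; rfl
    rwa [this] at hcomp
  · obtain ⟨a, ha⟩ : ∃ a, i a = z := hr.ge hξz.mem_closure
    have haw : a ⤳ w := by rw [← hemb.isInducing.specializes_iff, ha, hw]; exact hzx
    have hfa : (i ≫ f) a = (i ≫ f) w := by
      show f (i a) = f (i w)
      rw [ha, hw, hfz]
    have := fdeg_le_fibreDimAt (f := i ≫ f) haw hfa
    rw [hd, fdeg_comp_closedImmersion, ha] at this
    rw [hde]
    exact_mod_cast this

theorem hasEquidimComponent_of_isEquidimAt {x : X} (h : EGA43.IsEquidimAt f x) :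
    HasEquidimComponent f x := by
  obtain ⟨e, hd, -, hgen⟩ := exists_of_isEquidimAt f h
  obtain ⟨Z, hZ, hxZ⟩ := exists_mem_irreducibleComponents_subset_of_isIrreducible {x}
    isIrreducible_singleton
  obtain ⟨ξ, rfl, hξ⟩ := specializes_of_component hZ
  have hξx : ξ ⤳ x := specializes_iff_mem_closure.2 (hxZ rfl)
  obtain ⟨hde, hcomp⟩ := hgen ξ hξx hξ
  refine hasEquidimComponent_of f hξx hξ hcomp fun z _ hzx hfz => ?_
  have := fdeg_le_fibreDimAt (f := f) hzx hfz
  rw [hd, ← hde] at this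
  exact_mod_cast this

theorem hasEquidimComponent_of_isFibreMax
    (h : ∀ z : X, IsFibreMax f z → HasEquidimComponent f z) (x : X) :
    HasEquidimComponent f x := by
  obtain ⟨z, hzx, hfz, hzmax, hd, -⟩ := exists_isFibreMax_specializes f x
  obtain ⟨ξ, hξz, hξ, hcomp, hle⟩ := exists_of_hasEquidimComponent f (h z hzmax)
  refine hasEquidimComponent_of f (hξz.trans hzx) hξ hcomp fun z' _ hz'x hfz' => ?_
  have := fdeg_le_fibreDimAt (f := f) hz'x hfz'
  rw [hd] at this
  exact le_trans (by exact_mod_cast this) (hle z hξz specializes_rfl rfl)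

theorem hasEquidimComponent_of_universallyOpen (x : X)
    (h : ∀ z : X, z ⤳ x → EGA43.IsUnivOpenAt f z) : HasEquidimComponent f x := by
  obtain ⟨z, hzx, hfz, hzmax, hd, -⟩ := exists_isFibreMax_specializes f x
  obtain ⟨T, hT, hfzT⟩ := exists_mem_irreducibleComponents_subset_of_isIrreducible {f z}
    isIrreducible_singleton
  obtain ⟨θ, rfl, hθ⟩ := specializes_of_component hT
  obtain ⟨ξ₁, hfξ₁, hξ₁z, hle⟩ := exists_fdeg_ge_of_isUnivOpenAt f (h z hzx)
    (specializes_iff_mem_closure.2 (hfzT rfl) : θ ⤳ f z)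
  obtain ⟨Z, hZ, hξ₁Z⟩ := exists_mem_irreducibleComponents_subset_of_isIrreducible {ξ₁}
    isIrreducible_singleton
  obtain ⟨ξ, rfl, hξ⟩ := specializes_of_component hZ
  have hξξ₁ : ξ ⤳ ξ₁ := specializes_iff_mem_closure.2 (hξ₁Z rfl)
  have hfξ : f ξ = θ := hθ _ (hfξ₁ ▸ hξξ₁.map f.continuous)
  have hdeg : fdeg f ξ₁ ≤ fdeg f ξ := by
    rcases eq_or_ne ξ ξ₁ with rfl | hne
    · exact le_rfl
    · exact (fdeg_lt (f := f) hξξ₁ (hfξ.trans hfξ₁.symm) hne).le
  refine hasEquidimComponent_of f ((hξξ₁.trans hξ₁z).trans hzx) hξ (hfξ ▸ hT)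
    fun z' _ hz'x hfz' => ?_
  have := fdeg_le_fibreDimAt (f := f) hz'x hfz'
  rw [hd] at this
  exact le_trans (by exact_mod_cast this) (hle.trans hdeg)

end Groth.Agent.Fam20
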