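import Groth.Agent.Fam20.ChevalleyDomain
import Groth.Agent.Fam20.EquidimComponent
import Groth.Agent.E4O.QuasiSectionScheme
import Groth.Agent.E4O.StalkChart
import Groth.Agent.E4O.OpenDim
import Groth.Agent.E4O.OpenMapDims2
import Groth.Agent.LimTop61.UnivOpen
import Mathlib.RingTheory.Flat.Localization
import Mathlib.RingTheory.Flat.Stability

/-!
Chevalley's criterion of universal openness over a base with geometrically unibranch local rings,
for morphisms locally of finite type, without noetherian hypotheses.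
-/

universe u

open CategoryTheory CategoryTheory.Limits CategoryTheory.MorphismProperty AlgebraicGeometry Topology
  TopologicalSpace
open scoped TensorProduct

namespace Groth.Agent.Fam20

open Groth.Agent.E4O

/-- A ring map which is open after every polynomial base change is universally open. -/
theorem universallyOpen_Spec_map_of_isOpenMap {R S : CommRingCat.{u}} (φ : R ⟶ S)
    (h : ∀ n : ℕ, IsOpenMap (PrimeSpectrum.comap
      (MvPolynomial.map φ.hom : MvPolynomial (ULift.{u} (Fin (n + 1))) R →+*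
        MvPolynomial (ULift.{u} (Fin (n + 1))) S))) :
    UniversallyOpen (Spec.map φ) := by
  refine ⟨universally_mk' _ _ fun {T} g _ ↦ ?_⟩
  wlog hT : ∃ B, T = Spec B generalizing T
  · refine (IsZariskiLocalAtTarget.iff_of_openCover T.affineCover).mpr fun i ↦ ?_
    refine (MorphismProperty.cancel_left_of_respectsIso _
      ((pullbackRightPullbackFstIso ..).inv ≫ (pullbackSymmetry ..).hom) _).mp ?_
    simpa [Scheme.Cover.pullbackHom] using! this _ _ ⟨_, rfl⟩
  obtain ⟨B, rfl⟩ := hT
  obtain ⟨ψ, rfl⟩ := Spec.map_surjective g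
  algebraize [φ.hom, ψ.hom]
  refine (MorphismProperty.cancel_left_of_respectsIso _ (pullbackSpecIso R B S).inv _).mp ?_
  convert_to! topologically _ (Spec.map <| CommRingCat.ofHom (algebraMap B (TensorProduct R B S)))
  · exact pullbackSpecIso_inv_fst ..
  exact LimTop61.isOpenMap_comap_tensor R B S h

open MvPolynomial in
/-- Going down inside a fibre after a polynomial base change. -/
theorem exists_le_over_of_le {A B : Type u} [CommRing A] [CommRing B] [Algebra A B]
    (q z : Ideal B) [q.IsPrime] [z.IsPrime] (hzq : z ≤ q) (hzA : z.under A = q.under A)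
    (σ : Type u) (Q : Ideal (MvPolynomial σ B)) [Q.IsPrime] (hQ : Q.comap C = q) :
    ∃ Q' : Ideal (MvPolynomial σ B), Q'.IsPrime ∧ Q' ≤ Q ∧ Q'.comap C = z ∧
      Q'.comap (MvPolynomial.map (algebraMap A B)) = Q.comap (MvPolynomial.map (algebraMap A B)) := by
  let p := z.under A
  let m : MvPolynomial σ A →+* MvPolynomial σ B := MvPolynomial.map (algebraMap A B)
  let P := Q.comap m
  have hPA : P.comap C = p := by
    rw [Ideal.comap_comap, show m.comp C = (C : B →+* MvPolynomial σ B).comp (algebraMap A B) from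
      RingHom.ext fun a => MvPolynomial.map_C _ a, ← Ideal.comap_comap, hQ]
    exact hzA.symm
  let Ā := A ⧸ p
  let K := P.ResidueField
  let j : A →+* K := (algebraMap (MvPolynomial σ A) K).comp C
  have hj : RingHom.ker j = p := by
    ext a
    rw [← hPA]
    exact Ideal.algebraMap_residueField_eq_zero
  let _ : Algebra Ā K := (Ideal.Quotient.lift p j fun a ha => hj.ge ha).toAlgebra
  have hĀK : Function.Injective (algebraMap Ā K) :=
    RingHom.lift_injective_of_ker_le_ideal _ _ hj.le
  let k := FractionRing Ā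
  let _ : Algebra k K := (IsFractionRing.lift hĀK).toAlgebra
  have : IsScalarTower Ā k K :=
    IsScalarTower.of_algebraMap_eq fun a => (IsFractionRing.lift_algebraMap hĀK a).symm
  have : Module.Flat Ā k := IsLocalization.flat k (nonZeroDivisors Ā)
  have : Module.Flat Ā K := Module.Flat.trans Ā k K
  let B' := B ⧸ z
  let D := B' ⊗[Ā] K
  let L := Q.ResidueField
  let jB : B →+* L := (algebraMap (MvPolynomial σ B) L).comp C
  let βB : B' →+* L := Ideal.Quotient.lift z jB fun b hb =>
    Ideal.algebraMap_residueField_eq_zero.2 (hQ.ge (hzq hb))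
  let PQ : K →+* L := Ideal.ResidueField.map P Q m rfl
  let _ : Algebra Ā L := (βB.comp (algebraMap Ā B')).toAlgebra
  let βa : B' →ₐ[Ā] L := ⟨βB, fun x => rfl⟩
  let PQa : K →ₐ[Ā] L := ⟨PQ, fun x => by
    obtain ⟨a, rfl⟩ := Ideal.Quotient.mk_surjective x
    show PQ (algebraMap (MvPolynomial σ A) K (C a)) = βB (Ideal.Quotient.mk z (algebraMap A B a))
    rw [Ideal.ResidueField.map_algebraMap]
    exact congrArg (algebraMap (MvPolynomial σ B) L) (MvPolynomial.map_C _ a)⟩
  let θ : D →ₐ[Ā] L := Algebra.TensorProduct.lift βa PQa fun _ _ => Commute.all _ _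
  let Qd : Ideal D := RingHom.ker θ.toRingHom
  have hQd : Qd.IsPrime := RingHom.ker_isPrime _
  obtain ⟨Qd', hQd'min, hQd'le⟩ := Ideal.exists_minimalPrimes_le (I := (⊥ : Ideal D)) (J := Qd) bot_le
  have hQd' : Qd'.IsPrime := hQd'min.1.1
  -- elements outside `z` are regular on `D`
  have hB' : Qd'.comap (algebraMap B' D) = ⊥ := by
    refine eq_bot_iff.2 fun b hb => by_contra fun hb0 => ?_
    have hreg : algebraMap B' D b ∈ nonZeroDivisors D := by
      refine mem_nonZeroDivisors_iff_right.2 fun x hx => ?_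
      have hinj : Function.Injective (LinearMap.rTensor K (LinearMap.mulLeft Ā b)) :=
        Module.Flat.rTensor_preserves_injective_linearMap _ fun _ _ h =>
          mul_left_cancel₀ (show b ≠ 0 from hb0) h
      have hmul : ∀ x : D, LinearMap.rTensor K (LinearMap.mulLeft Ā b) x = x * algebraMap B' D b :=
        fun x => by
          induction x using TensorProduct.induction_on with
          | zero => rw [map_zero, zero_mul]
          | tmul c d =>
            show (b * c) ⊗ₜ[Ā] d = (c ⊗ₜ[Ā] d) * (b ⊗ₜ[Ā] (1 : K))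
            rw [Algebra.TensorProduct.tmul_mul_tmul, mul_one, mul_comm b c]
          | add x y hx hy => rw [map_add, hx, hy, add_mul]
      exact hinj (((hmul x).trans hx).trans (map_zero _).symm)
    exact Set.disjoint_left.1 (Ideal.disjoint_nonZeroDivisors_of_mem_minimalPrimes hQd'min) hb hreg
  let iK : K →+* D := Algebra.TensorProduct.includeRight.toRingHom
  let iB : B →+* D := (algebraMap B' D).comp (Ideal.Quotient.mk z)
  let ψ : MvPolynomial σ B →+* D :=
    MvPolynomial.eval₂Hom iB fun i => iK (algebraMap (MvPolynomial σ A) K (X i))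
  have hψm : ψ.comp m = iK.comp (algebraMap (MvPolynomial σ A) K) := by
    refine MvPolynomial.ringHom_ext (fun a => ?_) fun i => by simp [ψ, m]
    show ψ (MvPolynomial.map _ (C a)) = _
    rw [MvPolynomial.map_C]
    simp only [ψ, MvPolynomial.eval₂Hom_C, RingHom.comp_apply]
    exact ((Algebra.TensorProduct.includeRight (R := Ā) (A := B') (B := K)).commutes
      (Ideal.Quotient.mk p a)).symm
  have hθψ : θ.toRingHom.comp ψ = algebraMap (MvPolynomial σ B) L := by
    refine MvPolynomial.ringHom_ext (fun b => ?_) fun i => ?_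
    · show θ (ψ (C b)) = _
      simp only [ψ, MvPolynomial.eval₂Hom_C]
      show θ ((Ideal.Quotient.mk z b) ⊗ₜ[Ā] (1 : K)) = _
      rw [Algebra.TensorProduct.lift_tmul, map_one, mul_one]
      rfl
    · show θ (ψ (X i)) = _
      simp only [ψ, MvPolynomial.eval₂Hom_X']
      show θ ((1 : B') ⊗ₜ[Ā] algebraMap (MvPolynomial σ A) K (X i)) = _
      rw [Algebra.TensorProduct.lift_tmul, map_one, one_mul]
      show PQ (algebraMap (MvPolynomial σ A) K (X i)) = _
      rw [Ideal.ResidueField.map_algebraMap]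
      simp [m]
      rfl
  refine ⟨Qd'.comap ψ, inferInstance, fun x hx => ?_, ?_, ?_⟩
  · have h1 : θ (ψ x) = 0 := hQd'le hx
    exact Ideal.algebraMap_residueField_eq_zero.1 ((RingHom.congr_fun hθψ x).symm.trans h1)
  · rw [Ideal.comap_comap, show ψ.comp C = iB from RingHom.ext fun b => MvPolynomial.eval₂Hom_C _ _ b,
      ← Ideal.comap_comap, hB', ← RingHom.ker_eq_comap_bot, Ideal.mk_ker]
  · rw [Ideal.comap_comap, hψm, ← Ideal.comap_comap,
      show Qd'.comap iK = ⊥ from (Ideal.eq_bot_or_top _).resolve_right (hQd'.comap iK).ne_top]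
    ext g
    exact Ideal.algebraMap_residueField_eq_zero

open MvPolynomial in
/-- The ring form: the map stays open after every polynomial base change. -/
theorem isOpenMap_comap_map_of_geomUnibranch {A B : Type u} [CommRing A] [CommRing B] [Algebra A B]
    [Algebra.FiniteType A B]
    (hA : ∀ p : Ideal A, [p.IsPrime] → CAlg2.IsGeomUnibranch (Localization.AtPrime p))
    (h : ∀ q : Ideal B, q.IsPrime → ∃ q₀ : Ideal B, q₀.IsPrime ∧ q₀ ≤ q ∧
      q₀.under A = nilradical A ∧ ∀ q' : Ideal B, q'.IsPrime → q₀ ≤ q' → q' ≤ q →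
        q'.under A = q.under A → Algebra.trdeg (A ⧸ q'.under A) (B ⧸ q') ≤
          Algebra.trdeg (A ⧸ q₀.under A) (B ⧸ q₀))
    (σ : Type u) : IsOpenMap (PrimeSpectrum.comap (MvPolynomial.map (σ := σ) (algebraMap A B))) := by
  rw [isOpenMap_iff_nhds_le]
  intro Qx
  refine fun W hW => ?_
  obtain ⟨V, hVW, hV, hQV⟩ := mem_nhds_iff.1 (Filter.mem_map.1 hW)
  refine Filter.mem_of_superset ?_ (Set.image_subset_iff.2 hVW)
  obtain ⟨q₀, hq₀, hq₀q, hq₀A, hdeg⟩ := h (Qx.asIdeal.comap C) inferInstance
  let q := Qx.asIdeal.comap C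
  let p := q.under A
  have hJ : q₀ ⊔ p.map (algebraMap A B) ≤ q := sup_le hq₀q Ideal.map_comap_le
  obtain ⟨z, hz, hzq⟩ := Ideal.exists_minimalPrimes_le hJ
  have hzp : z.IsPrime := hz.1.1
  have hzA : z.under A = p :=
    le_antisymm (Ideal.comap_mono hzq) (Ideal.map_le_iff_le_comap.1 (le_sup_right.trans hz.1.2))
  have hq₀z : q₀ ≤ z := le_sup_left.trans hz.1.2
  have hzdeg := hdeg z hzp hq₀z hzq hzA
  obtain ⟨Q', hQ', hQ'Q, hQ'z, hQ'P⟩ := exists_le_over_of_le q z hzq hzA σ Qx.asIdeal rfl
  have hspec : (⟨Q', hQ'⟩ : PrimeSpectrum (MvPolynomial σ B)) ⤳ Qx :=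
    (PrimeSpectrum.le_iff_specializes _ _).1 hQ'Q
  have himg : PrimeSpectrum.comap (MvPolynomial.map (algebraMap A B)) ⟨Q', hQ'⟩ =
      PrimeSpectrum.comap (MvPolynomial.map (algebraMap A B)) Qx := PrimeSpectrum.ext hQ'P
  rw [← himg]
  replace hQV := hspec.mem_open hV hQV
  -- reduction to domains
  let p₀ := q₀.under A
  have hp₀ : p₀ = nilradical A := hq₀A
  let mA : A →+* A ⧸ p₀ := Ideal.Quotient.mk p₀
  let mB : B →+* B ⧸ q₀ := Ideal.Quotient.mk q₀
  have hsq : mB.comp (algebraMap A B) = (algebraMap (A ⧸ p₀) (B ⧸ q₀)).comp mA := rfl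
  let μA : MvPolynomial σ A →+* MvPolynomial σ (A ⧸ p₀) := MvPolynomial.map mA
  let μB : MvPolynomial σ B →+* MvPolynomial σ (B ⧸ q₀) := MvPolynomial.map mB
  have hμA : Function.Surjective μA := MvPolynomial.map_surjective _ Ideal.Quotient.mk_surjective
  have hμB : Function.Surjective μB := MvPolynomial.map_surjective _ Ideal.Quotient.mk_surjective
  have hkA : RingHom.ker μA ≤ nilradical (MvPolynomial σ A) := by
    rw [MvPolynomial.ker_map, Ideal.mk_ker, Ideal.map_le_iff_le_comap]
    intro a ha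
    exact mem_nilradical.2 ((mem_nilradical.1 (hp₀.le ha)).map (C : A →+* MvPolynomial σ A))
  have hkB : RingHom.ker μB ≤ Q' := by
    rw [MvPolynomial.ker_map, Ideal.mk_ker, Ideal.map_le_iff_le_comap, hQ'z]
    exact hq₀z
  have hQb : (Q'.map μB).IsPrime := Ideal.map_isPrime_of_surjective hμB hkB
  have hQbc : (Q'.map μB).comap μB = Q' := by
    rw [Ideal.comap_map_of_surjective μB hμB, ← RingHom.ker_eq_comap_bot]
    exact sup_eq_left.2 hkB
  have hzb : (z.map mB).IsPrime :=
    Ideal.map_isPrime_of_surjective Ideal.Quotient.mk_surjective (Ideal.mk_ker.le.trans hq₀z)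
  have hzbc : (z.map mB).comap mB = z := by
    rw [Ideal.comap_map_of_surjective mB Ideal.Quotient.mk_surjective, ← RingHom.ker_eq_comap_bot,
      Ideal.mk_ker]
    exact sup_eq_left.2 hq₀z
  have hpb : ((z.map mB).under (A ⧸ p₀)).comap mA = z.under A := by
    rw [Ideal.under_def, Ideal.comap_comap, ← hsq, ← Ideal.comap_comap, hzbc]
  have hQbC : (Q'.map μB).comap C = z.map mB := by
    refine Ideal.comap_injective_of_surjective mB Ideal.Quotient.mk_surjective ?_
    rw [hzbc, Ideal.comap_comap, show (C : B ⧸ q₀ →+* MvPolynomial σ (B ⧸ q₀)).comp mB = μB.comp C from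
      RingHom.ext fun b => (MvPolynomial.map_C _ b).symm, ← Ideal.comap_comap, hQbc, hQ'z]
  have : Algebra.FiniteType A (B ⧸ q₀) :=
    Algebra.FiniteType.of_surjective (Ideal.Quotient.mkₐ A q₀) Ideal.Quotient.mk_surjective
  have : Algebra.FiniteType (A ⧸ p₀) (B ⧸ q₀) := .of_restrictScalars_finiteType A _ _
  have hnhds := image_mem_nhds_of_domain (A := A ⧸ p₀) (B := B ⧸ q₀)
    (fun P _ => isGeomUnibranch_quotient p₀ (P.comap mA) (Localization.AtPrime (P.comap mA)) (hA _)
      (fun p' hp' _ => hp₀.le.trans (nilradical_le_prime p')) P rfl)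
    Ideal.algebraMap_quotient_injective (z.map mB)
    (fun q' hq' hq'le hu => by
      have h1 : q'.comap mB = z := by
        refine le_antisymm (fun b hb => hzbc.le (hq'le hb)) (hz.2 ⟨hq'.comap _, sup_le ?_ ?_⟩
          (fun b hb => hzbc.le (hq'le hb)))
        · intro b hb
          show mB b ∈ q'
          rw [show mB b = 0 from Ideal.Quotient.eq_zero_iff_mem.2 hb]
          exact q'.zero_mem
        · rw [Ideal.map_le_iff_le_comap, Ideal.comap_comap, hsq, ← Ideal.comap_comap, ← hzA, ← hpb,
            ← hu]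
      rw [← h1, Ideal.map_comap_of_surjective mB Ideal.Quotient.mk_surjective])
    (by
      refine le_trans (le_of_eq ?_) hzdeg
      let eR : (A ⧸ p₀) ⧸ (z.map mB).under (A ⧸ p₀) ≃+* A ⧸ z.under A :=
        (Ideal.quotEquivOfEq (by
          rw [← hpb, Ideal.map_comap_of_surjective mA Ideal.Quotient.mk_surjective] :
          (z.map mB).under (A ⧸ p₀) = (z.under A).map mA)).trans
          (DoubleQuot.quotQuotEquivQuotOfLE (fun a ha => hq₀z ha))
      refine trdeg_eq_of_ringEquiv eR (DoubleQuot.quotQuotEquivQuotOfLE hq₀z) ?_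
      refine Ideal.Quotient.ringHom_ext (Ideal.Quotient.ringHom_ext (RingHom.ext fun a => ?_))
      rfl)
    σ ⟨Q'.map μB, hQb⟩ hQbC
    ((hV.preimage (PrimeSpectrum.continuous_comap μB)).mem_nhds (show PrimeSpectrum.comap μB _ ∈ V by
      rw [show PrimeSpectrum.comap μB ⟨Q'.map μB, hQb⟩ = ⟨Q', hQ'⟩ from PrimeSpectrum.ext hQbc]
      exact hQV))
  have hcomm : μB.comp (MvPolynomial.map (algebraMap A B)) =
      (MvPolynomial.map (algebraMap (A ⧸ p₀) (B ⧸ q₀))).comp μA := by
    refine RingHom.ext fun g => ?_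
    simp only [RingHom.comp_apply, μA, μB, MvPolynomial.map_map, hsq]
  have hμAo : IsOpenMap (PrimeSpectrum.comap μA) := by
    have hemb := PrimeSpectrum.isClosedEmbedding_comap_of_surjective _ μA hμA
    have hsurj : Set.range (PrimeSpectrum.comap μA) = Set.univ := by
      rw [range_comap_of_surjective _ μA hμA, Set.eq_univ_iff_forall]
      exact fun P => (PrimeSpectrum.mem_zeroLocus _ _).2 (hkA.trans (nilradical_le_prime _))
    exact (Equiv.ofBijective _ ⟨hemb.injective, Set.range_eq_univ.1 hsurj⟩).toHomeomorphOfIsInducing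
      hemb.isInducing |>.isOpenMap
  have hfin := hμAo.image_mem_nhds hnhds
  rw [← Set.image_comp] at hfin
  have hcomp : PrimeSpectrum.comap μA ∘
      PrimeSpectrum.comap (MvPolynomial.map (algebraMap (A ⧸ p₀) (B ⧸ q₀))) =
      PrimeSpectrum.comap (MvPolynomial.map (algebraMap A B)) ∘ PrimeSpectrum.comap μB :=
    funext fun x => by simp only [Function.comp_apply, ← PrimeSpectrum.comap_comp_apply, hcomm]
  rw [hcomp, Set.image_comp, ← PrimeSpectrum.comap_comp_apply, ← hcomm,
    PrimeSpectrum.comap_comp_apply, show PrimeSpectrum.comap μB ⟨Q'.map μB, hQb⟩ = ⟨Q', hQ'⟩ from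
      PrimeSpectrum.ext hQbc] at hfin
  exact Filter.mem_of_superset hfin (Set.image_mono (Set.image_preimage_subset _ _))

variable {X S : Scheme.{u}}

/-- Components are open when they are finitely many and each point lies on only one. -/
theorem isOpen_closure_of_unique_generic {α : Type*} [TopologicalSpace α] [QuasiSober α] [T0Space α]
    (hfin : (irreducibleComponents α).Finite) (hgen : ∀ s : α, ∃ η, ∀ y, y ⤳ s → η ⤳ y) {θ : α}
    (hθ : ∀ y, y ⤳ θ → y = θ) : IsOpen (closure ({θ} : Set α)) := by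
  have huniq : ∀ Z ∈ irreducibleComponents α, ∀ s ∈ Z, s ∈ closure ({θ} : Set α) →
      Z = closure {θ} := by
    intro Z hZ s hsZ hsθ
    obtain ⟨θ', rfl, hθ'⟩ := specializes_of_component hZ
    obtain ⟨η, hmin⟩ := hgen s
    rw [← hθ' η (hmin θ' (specializes_iff_mem_closure.2 hsZ)),
      hθ η (hmin θ (specializes_iff_mem_closure.2 hsθ))]
  have heq : (closure ({θ} : Set α))ᶜ = ⋃ Z ∈ irreducibleComponents α \ {closure {θ}}, Z := by
    ext s
    simp only [Set.mem_compl_iff, Set.mem_iUnion, Set.mem_sdiff, Set.mem_singleton_iff, exists_prop]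
    constructor
    · intro hs
      obtain ⟨Z, hZ, hsZ⟩ := exists_mem_irreducibleComponents_subset_of_isIrreducible {s}
        isIrreducible_singleton
      exact ⟨Z, ⟨hZ, fun h => hs (h ▸ hsZ rfl)⟩, hsZ rfl⟩
    · rintro ⟨Z, ⟨hZ, hne⟩, hsZ⟩ hs
      exact hne (huniq Z hZ s hsZ hs)
  rw [← isClosed_compl_iff, heq]
  exact (hfin.subset Set.sdiff_subset).isClosed_biUnion fun Z hZ =>
    isClosed_of_mem_irreducibleComponents Z hZ.1

/-- The irreducible components of a scheme with unibranch local rings are open when they are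
finitely many. -/
theorem isOpen_closure_of_unibranch (hS : ∀ s : S, CAlg2.IsUnibranch (S.presheaf.stalk s))
    (hfin : (irreducibleComponents (S : Type u)).Finite) {θ : S}
    (hθ : closure {θ} ∈ irreducibleComponents (S : Type u)) : IsOpen (closure ({θ} : Set S)) :=
  isOpen_closure_of_unique_generic hfin
    (fun s => (exists_generic_of_isUnibranch (hS s)).imp fun _ h => h.2)
    fun _ h => eq_of_specializes_of_component hθ h

/-- The irreducible components of a locally noetherian scheme with unibranch local rings are open. -/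
theorem isOpen_closure_of_unibranch_of_isLocallyNoetherian [IsLocallyNoetherian S]
    (hS : ∀ s : S, CAlg2.IsUnibranch (S.presheaf.stalk s)) {θ : S}
    (hθ : closure {θ} ∈ irreducibleComponents (S : Type u)) : IsOpen (closure ({θ} : Set S)) := by
  refine isOpen_iff_forall_mem_open.2 fun s hs => ?_
  obtain ⟨_, ⟨W, hW, rfl⟩, hsW, -⟩ :=
    S.isBasis_affineOpens.exists_subset_of_mem_open (Set.mem_univ s) isOpen_univ
  replace hW : IsAffineOpen W := hW
  have hθW : θ ∈ W := (specializes_iff_mem_closure.2 hs).mem_open W.isOpen hsW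
  have : IsAffine (W : Scheme.{u}) := hW
  have : NoetherianSpace (W : Scheme.{u}) := by
    have : IsNoetherian (W : Scheme.{u}) := { }
    infer_instance
  have hopen := isOpen_closure_of_unique_generic (α := (W : Scheme.{u}))
    NoetherianSpace.finite_irreducibleComponents (θ := ⟨θ, hθW⟩)
    (fun t => by
      obtain ⟨η, hη, hmin⟩ := exists_generic_of_isUnibranch (hS t.1)
      refine ⟨⟨η, hη.mem_open W.isOpen t.2⟩, fun y hy => ?_⟩
      exact (subtype_specializes_iff _ _).2 (hmin y.1 ((subtype_specializes_iff _ _).1 hy)))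
    fun y hy => Subtype.ext (eq_of_specializes_of_component hθ ((subtype_specializes_iff _ _).1 hy))
  refine ⟨Subtype.val '' closure {(⟨θ, hθW⟩ : (W : Scheme.{u}))}, ?_,
    W.isOpen.isOpenMap_subtype_val _ hopen, ⟨⟨s, hsW⟩, ?_, rfl⟩⟩
  · rintro _ ⟨t, ht, rfl⟩
    exact specializes_iff_mem_closure.1 ((subtype_specializes_iff _ _).1 (specializes_iff_mem_closure.2 ht))
  · exact specializes_iff_mem_closure.1 ((subtype_specializes_iff _ _).2 (specializes_iff_mem_closure.2 hs))

/-- EGA IV 14.4.4, over a base with open irreducible components. -/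
theorem universallyOpen_of_geomUnibranch' (f : X ⟶ S) [LocallyOfFiniteType f]
    (hS : ∀ s : S, CAlg2.IsGeomUnibranch (S.presheaf.stalk s))
    (hopen : ∀ θ : S, closure {θ} ∈ irreducibleComponents (S : Type u) →
      IsOpen (closure ({θ} : Set S)))
    (h : ∀ x : X, ∃ ξ : X, ξ ⤳ x ∧ closure {f ξ} ∈ irreducibleComponents (S : Type u) ∧
      ∀ z, ξ ⤳ z → z ⤳ x → f z = f x → fdeg f z ≤ fdeg f ξ) :
    UniversallyOpen f := by
  have hcov : ∀ x : X, ∃ (U : X.Opens), x ∈ U ∧ UniversallyOpen (U.ι ≫ f) := by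
    intro x
    obtain ⟨θ, hθ, hθc⟩ := exists_component_generic_specializes (f x)
    let Z : S.Opens := ⟨closure {θ}, hopen θ hθc⟩
    have hxZ : f x ∈ Z := specializes_iff_mem_closure.1 hθ
    obtain ⟨_, ⟨W, hW, rfl⟩, hxW, hWZ⟩ :=
      S.isBasis_affineOpens.exists_subset_of_mem_open hxZ Z.isOpen
    obtain ⟨_, ⟨V, hV, rfl⟩, hxV, hVW⟩ :=
      X.isBasis_affineOpens.exists_subset_of_mem_open
        (show x ∈ (f ⁻¹ᵁ W : X.Opens) from hxW) (f ⁻¹ᵁ W).isOpen
    replace hW : IsAffineOpen W := hW
    replace hV : IsAffineOpen V := hV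
    let φ := f.appLE W V hVW
    algebraize [φ.hom]
    have hft : φ.hom.FiniteType := f.finiteType_appLE hW hV hVW
    have : Algebra.FiniteType Γ(S, W) Γ(X, V) := hft
    have := hV.isOpenImmersion_fromSpec
    have := hW.isOpenImmersion_fromSpec
    let C : Chart f := ⟨Γ(S, W), Γ(X, V), hV.fromSpec, hW.fromSpec,
      (IsAffineOpen.SpecMap_appLE_fromSpec f hW hV hVW).symm⟩
    -- the generic point of the base chart
    obtain ⟨P₀, hP₀⟩ : θ ∈ Set.range C.ptY :=
      hW.range_fromSpec.ge (hθ.mem_open W.isOpen hxW)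
    have hmin : ∀ p' : PrimeSpectrum C.A, P₀.asIdeal ≤ p'.asIdeal := fun p' => by
      rw [← C.specializesY_iff, hP₀]
      exact specializes_iff_mem_closure.2 (hWZ (hW.range_fromSpec.le ⟨p', rfl⟩))
    have hnil : nilradical C.A = P₀.asIdeal := le_antisymm (nilradical_le_prime _) (by
      rw [nilradical_eq_sInf]
      exact le_sInf fun J hJ => hmin ⟨J, hJ⟩)
    have hA : ∀ p : Ideal C.A, [p.IsPrime] → CAlg2.IsGeomUnibranch (Localization.AtPrime p) := by
      intro p hp
      obtain ⟨a, ha⟩ : ∃ _ : Algebra C.A (S.presheaf.stalk (C.ptY ⟨p, hp⟩)),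
          IsLocalization.AtPrime (S.presheaf.stalk (C.ptY ⟨p, hp⟩)) p :=
        exists_isLocalization_stalk C.j ⟨p, hp⟩
      let e : S.presheaf.stalk (C.ptY ⟨p, hp⟩) ≃ₐ[C.A] Localization.AtPrime p :=
        IsLocalization.algEquiv p.primeCompl _ _
      exact isGeomUnibranch_of_surjective e.toRingEquiv.toRingHom e.surjective
        (fun y hy => by
          rw [show y = 0 from e.injective (hy.trans (map_zero e).symm)]; exact zero_mem _) (hS _)
    have hring : ∀ σ : Type u,
        IsOpenMap (PrimeSpectrum.comap (MvPolynomial.map (σ := σ) (algebraMap C.A C.B))) := by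
      refine isOpenMap_comap_map_of_geomUnibranch hA fun q hq => ?_
      obtain ⟨ξ, hξ, hcomp, hle⟩ := h (C.pt ⟨q, hq⟩)
      obtain ⟨q₀, rfl⟩ := hξ.mem_open C.isOpenEmbedding_pt.isOpen_range ⟨_, rfl⟩
      refine ⟨q₀.asIdeal, q₀.2, (C.specializes_iff _ _).1 hξ, ?_, fun q' hq' h₀ h₁ hu => ?_⟩
      · have h1 : C.ptY P₀ ⤳ f (C.pt q₀) := by
          rw [C.apply]
          exact (C.specializesY_iff _ _).2 (hmin _)
        have h2 := eq_of_specializes_of_component hcomp h1
        rw [C.apply] at h2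
        rw [hnil]
        exact (congrArg PrimeSpectrum.asIdeal (C.isOpenEmbedding_ptY.injective h2)).symm
      · have := hle (C.pt ⟨q', hq'⟩) ((C.specializes_iff _ _).2 h₀) ((C.specializes_iff _ _).2 h₁)
          (by rw [C.apply, C.apply]; exact congrArg C.ptY (PrimeSpectrum.ext hu))
        rw [C.trdeg_eq_fdeg ⟨q', hq'⟩, C.trdeg_eq_fdeg q₀]
        exact_mod_cast this
    have hSpec : UniversallyOpen (Spec.map φ) :=
      universallyOpen_Spec_map_of_isOpenMap φ fun n => hring _
    refine ⟨hV.fromSpec.opensRange, ?_, ?_⟩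
    · exact hV.range_fromSpec.ge hxV
    · rw [← MorphismProperty.cancel_left_of_respectsIso @UniversallyOpen
        hV.fromSpec.isoOpensRange.hom, ← Category.assoc, Scheme.Hom.isoOpensRange_hom_ι,
        ← IsAffineOpen.SpecMap_appLE_fromSpec f hW hV hVW]
      infer_instance
  choose U hxU hU using hcov
  exact IsZariskiLocalAtSource.of_iSup_eq_top (P := @UniversallyOpen) U
    (eq_top_iff.2 fun x _ => TopologicalSpace.Opens.mem_iSup.2 ⟨x, hxU x⟩) hU

/-- EGA IV 14.4.4, over a base with finitely many irreducible components. -/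
theorem universallyOpen_of_geomUnibranch (f : X ⟶ S) [LocallyOfFiniteType f]
    (hS : ∀ s : S, CAlg2.IsGeomUnibranch (S.presheaf.stalk s))
    (hfin : (irreducibleComponents (S : Type u)).Finite)
    (h : ∀ x : X, ∃ ξ : X, ξ ⤳ x ∧ closure {f ξ} ∈ irreducibleComponents (S : Type u) ∧
      ∀ z, ξ ⤳ z → z ⤳ x → f z = f x → fdeg f z ≤ fdeg f ξ) :
    UniversallyOpen f :=
  universallyOpen_of_geomUnibranch' f hS
    (fun _ hθ => isOpen_closure_of_unibranch (fun s => (hS s).1) hfin hθ) h

end Groth.Agent.Fam20
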