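import Groth.Prelude.Def_CAlg
import Groth.Prelude.Def_EGA4b
import Groth.Agent.CAlg1.Sk
import Groth.Agent.CAlg1.SerreNormal
import Groth.Agent.Depth99.Basic
import Mathlib.RingTheory.Flat.EquationalCriterion

/-!
# Flatness over an Artinian base and reducedness of the fibre from codimension one

`B` an algebra over an Artinian local ring `A`, `B` is `(S₁)`, `B_red` is `(S₂)`, and at the primes
of height `≤ 1` the algebra is flat with reduced fibre.  Then `mB` is the nilradical and `B` is flat.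
Everything is done elementwise, by induction over simple extensions of ideals of `A`.
-/

set_option autoImplicit false
universe u

open IsLocalRing

namespace Groth.Agent.Fam20.CodimOne

theorem exists_sum_of_mem_smul_top {A M : Type u} [CommRing A] [AddCommGroup M] [Module A M]
    {I : Ideal A} {v : M} (hv : v ∈ I • (⊤ : Submodule A M)) :
    ∃ (n : ℕ) (i : Fin n → A) (x : Fin n → M), (∀ k, i k ∈ I) ∧ v = ∑ k, i k • x k := by
  refine Submodule.smul_induction_on hv (fun r hr n _ => ⟨1, fun _ => r, fun _ => n, fun _ => hr,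
    by simp⟩) ?_
  rintro v w ⟨n, i, x, hi, rfl⟩ ⟨m, j, y, hj, rfl⟩
  refine ⟨n + m, Fin.append i j, Fin.append x y, fun k => ?_, ?_⟩
  · induction k using Fin.addCases with
    | left k => rw [Fin.append_left]; exact hi k
    | right k => rw [Fin.append_right]; exact hj k
  · simp [Fin.sum_univ_add]

/-- If `(I : t) ⊆ m` and `M` is flat then `(IM : t) ⊆ mM`. -/
theorem mem_smul_top_of_flat {A M : Type u} [CommRing A] [AddCommGroup M] [Module A M]
    [Module.Flat A M] (I : Ideal A) (t : A) (m : Ideal A) (hIt : ∀ a, t * a ∈ I → a ∈ m) (d : M)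
    (h : t • d ∈ I • (⊤ : Submodule A M)) : d ∈ m • (⊤ : Submodule A M) := by
  obtain ⟨n, i, x, hi, heq⟩ := exists_sum_of_mem_smul_top h
  let f : Option (Fin n) → A := fun o => o.elim t fun k => - i k
  let g : Option (Fin n) → M := fun o => o.elim d x
  have hsum : ∑ o, f o • g o = 0 := by
    simp [f, g, Fintype.sum_option, heq]
  obtain ⟨k, a, y, hy, ha⟩ := Module.Flat.isTrivialRelation_of_sum_smul_eq_zero hsum
  have hd : d = ∑ j, a none j • y j := hy none
  rw [hd]
  refine Submodule.sum_mem _ fun j _ => Submodule.smul_mem_smul ?_ Submodule.mem_top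
  refine hIt _ ?_
  have h1 := ha j
  simp only [f, Fintype.sum_option, Option.elim_none, Option.elim_some] at h1
  rw [eq_neg_of_add_eq_zero_left h1]
  exact I.neg_mem (I.sum_mem fun l _ => I.mul_mem_right _ (I.neg_mem (hi l)))

variable {A B : Type u} [CommRing A] [CommRing B] [Algebra A B]

/-- `b` lies in `IB` locally at the prime `q`. -/
def LocMem (I : Ideal A) (q : Ideal B) (b : B) : Prop :=
  ∃ s : B, s ∉ q ∧ s * b ∈ I.map (algebraMap A B)

theorem LocMem.mono {I J : Ideal A} {q : Ideal B} {b : B} (h : LocMem I q b) (hIJ : I ≤ J) :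
    LocMem J q b := by
  obtain ⟨s, hs, hm⟩ := h
  exact ⟨s, hs, Ideal.map_mono hIJ hm⟩

theorem locMem_iff (I : Ideal A) (q : Ideal B) [q.IsPrime] (b : B) :
    LocMem I q b ↔ algebraMap B (Localization.AtPrime q) b ∈
      I.map (algebraMap A (Localization.AtPrime q)) := by
  rw [IsScalarTower.algebraMap_eq A B (Localization.AtPrime q), ← Ideal.map_map,
    IsLocalization.algebraMap_mem_map_algebraMap_iff q.primeCompl]
  exact Iff.rfl

theorem locMem_of_flat {I m : Ideal A} {t : A} (hIt : ∀ a, t * a ∈ I → a ∈ m)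
    (q : Ideal B) [q.IsPrime] [Module.Flat A (Localization.AtPrime q)] {d : B}
    (h : LocMem I q (algebraMap A B t * d)) : LocMem m q d := by
  rw [locMem_iff] at h ⊢
  have key : ∀ (J : Ideal A) (z : Localization.AtPrime q),
      z ∈ J.map (algebraMap A (Localization.AtPrime q)) ↔ z ∈ J • (⊤ : Submodule A _) := fun J z => by
    rw [Ideal.smul_top_eq_map, Submodule.restrictScalars_mem]
  rw [key] at h ⊢
  refine mem_smul_top_of_flat I t m hIt _ ?_
  rwa [Algebra.smul_def, IsScalarTower.algebraMap_apply A B (Localization.AtPrime q), ← map_mul]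

section main

variable [IsArtinianRing A] [IsLocalRing A] [IsNoetherianRing B]

local notation "𝔪" => maximalIdeal A

theorem map_maximal_le_prime (q : Ideal B) [q.IsPrime] :
    (𝔪).map (algebraMap A B) ≤ q := by
  have h : (q.comap (algebraMap A B)).IsMaximal := IsArtinianRing.isMaximal_of_isPrime _
  exact Ideal.map_le_iff_le_comap.mpr (IsLocalRing.eq_maximalIdeal h).ge

theorem comap_eq_maximal (q : Ideal B) [q.IsPrime] : q.comap (algebraMap A B) = 𝔪 :=
  IsLocalRing.eq_maximalIdeal (IsArtinianRing.isMaximal_of_isPrime _)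

/-- An element of every minimal prime is nilpotent. -/
theorem mem_nilradical_of_forall_minimal {b : B} (h : ∀ q ∈ minimalPrimes B, b ∈ q) :
    b ∈ nilradical B := by
  rw [nilradical, ← Ideal.sInf_minimalPrimes]
  exact Submodule.mem_sInf.mpr h

/-- `(S₁)` elementwise. -/
theorem eq_zero_of_minimal (hS1 : LocCoh.HasSk 1 B B) {b : B}
    (h : ∀ q ∈ minimalPrimes B, ∃ s : B, s ∉ q ∧ s * b = 0) : b = 0 := by
  by_contra hb
  obtain ⟨p, hp, hann⟩ := exists_le_isAssociatedPrime_of_isNoetherianRing (R := B) b hb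
  have hmin := CAlg1.noEmbedded_iff_S1.mpr hS1 p hp
  rw [CAlg1.annihilator_self] at hmin
  obtain ⟨s, hs, hsb⟩ := h p hmin
  exact hs (hann (by rw [Submodule.mem_colon_singleton, Submodule.mem_bot]; exact hsb))

/-- Simple extensions in an Artinian local ring. -/
theorem exists_simple_below {I' : Ideal A} (h : I' ≠ ⊥) :
    ∃ (I : Ideal A) (t : A), I < I' ∧ t ∈ I' ∧ (∀ a, t * a ∈ I → a ∈ 𝔪) ∧
      (∀ a ∈ 𝔪, a * t ∈ I) ∧ (∀ z ∈ I', ∃ c, z - c * t ∈ I) := by
  obtain ⟨I, hI, hmax⟩ := set_has_maximal_iff_noetherian.mpr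
    (inferInstance : IsNoetherianRing A) {J : Ideal A | J < I'} ⟨⊥, bot_lt_iff_ne_bot.mpr h⟩
  obtain ⟨t, htI', htI⟩ := SetLike.exists_of_lt (show I < I' from hI)
  have hgen : I ⊔ Ideal.span {t} = I' := by
    refine eq_of_le_of_not_lt (sup_le hI.le ((Ideal.span_singleton_le_iff_mem _).mpr htI'))
      fun hlt => hmax _ hlt ?_
    exact lt_of_le_of_ne le_sup_left fun he => htI (he ▸ Ideal.mem_sup_right (Ideal.mem_span_singleton_self t))
  have hIt : ∀ a, t * a ∈ I → a ∈ 𝔪 := fun a ha => by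
    by_contra hc
    obtain ⟨u, rfl⟩ := (IsLocalRing.notMem_maximalIdeal.mp hc)
    exact htI (by simpa [mul_assoc] using Ideal.mul_mem_right (↑u⁻¹ : A) I ha)
  refine ⟨I, t, hI, htI', hIt, fun a ha => ?_, fun z hz => ?_⟩
  · by_contra hat
    have h1 : I ⊔ Ideal.span {a * t} = I' := by
      refine eq_of_le_of_not_lt (sup_le hI.le ((Ideal.span_singleton_le_iff_mem _).mpr
        (I'.mul_mem_left a htI'))) fun hlt => hmax _ hlt ?_
      exact lt_of_le_of_ne le_sup_left fun he =>
        hat (he ▸ Ideal.mem_sup_right (Ideal.mem_span_singleton_self (a * t)))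
    obtain ⟨i, hi, w, hw, hiw⟩ := Submodule.mem_sup.mp (h1 ▸ htI')
    obtain ⟨c, rfl⟩ := Ideal.mem_span_singleton'.mp hw
    have h2 : t * (1 - c * a) ∈ I := by
      have : t * (1 - c * a) = i := by linear_combination -hiw
      rwa [this]
    exact (maximalIdeal.isMaximal A).ne_top ((Ideal.eq_top_iff_one _).mpr
      (by simpa using add_mem (hIt _ h2) (Ideal.mul_mem_left _ c ha)))
  · rw [← hgen] at hz
    obtain ⟨i, hi, w, hw, rfl⟩ := Submodule.mem_sup.mp hz
    obtain ⟨c, rfl⟩ := Ideal.mem_span_singleton'.mp hw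
    exact ⟨c, by simpa using hi⟩

/-- Simple extensions, upwards. -/
theorem exists_simple_above {I : Ideal A} (h : I ≠ ⊤) :
    ∃ t : A, t ∉ I ∧ (∀ a, t * a ∈ I → a ∈ 𝔪) ∧ (∀ a ∈ 𝔪, a * t ∈ I) := by
  classical
  obtain ⟨n, hn⟩ := IsArtinianRing.isNilpotent_jacobson_bot (R := A)
  rw [IsLocalRing.jacobson_eq_maximalIdeal ⊥ bot_ne_top] at hn
  have hex : ∃ k, (𝔪) ^ k ≤ I := ⟨n, by rw [hn]; exact bot_le⟩
  cases hk : Nat.find hex with
  | zero =>
    have := Nat.find_spec hex
    rw [hk, pow_zero, Ideal.one_eq_top, top_le_iff] at this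
    exact absurd this h
  | succ k =>
    have hlt : ¬ (𝔪) ^ k ≤ I := Nat.find_min hex (by omega)
    obtain ⟨t, ht, htI⟩ := SetLike.not_le_iff_exists.mp hlt
    have hspec := Nat.find_spec hex
    rw [hk] at hspec
    refine ⟨t, htI, fun a ha => ?_, fun a ha => hspec ?_⟩
    · by_contra hc
      obtain ⟨u, rfl⟩ := (IsLocalRing.notMem_maximalIdeal.mp hc)
      exact htI (by simpa [mul_assoc] using Ideal.mul_mem_right (↑u⁻¹ : A) I ha)
    · rw [mul_comm, pow_succ]
      exact Ideal.mul_mem_mul ht ha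

theorem mul_mem_map_of_mem_maximal {I : Ideal A} {t : A} (hmt : ∀ a ∈ 𝔪, a * t ∈ I) {z : B}
    (hz : z ∈ (𝔪).map (algebraMap A B)) : algebraMap A B t * z ∈ I.map (algebraMap A B) := by
  refine Submodule.span_induction ?_ (by simp) (fun x y _ _ hx hy => by
    rw [mul_add]; exact add_mem hx hy) (fun c x _ hx => ?_) hz
  · rintro _ ⟨a, ha, rfl⟩
    rw [← map_mul, mul_comm]
    exact Ideal.mem_map_of_mem _ (hmt a ha)
  · rw [smul_eq_mul, mul_left_comm]
    exact Ideal.mul_mem_left _ c hx

/-- Regularity modulo `IB` at a prime of height `≤ 1`. -/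
theorem cancel_height_one (q : Ideal B) [q.IsPrime] [Module.Flat A (Localization.AtPrime q)]
    (hred : ∀ n ∈ nilradical B, LocMem 𝔪 q n)
    {x : B} (hx : ∀ p ∈ minimalPrimes B, x ∉ p) (I : Ideal A) :
    ∀ b : B, x * b ∈ I.map (algebraMap A B) → LocMem I q b := by
  have hm : ∀ b : B, x * b ∈ (𝔪).map (algebraMap A B) → LocMem 𝔪 q b := fun b hb =>
    hred b (mem_nilradical_of_forall_minimal fun p hp =>
      have := hp.1.1
      (hp.1.1.mem_or_mem (map_maximal_le_prime p hb)).resolve_left (hx p hp))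
  induction I using WellFoundedGT.induction with
  | ind I IH =>
  intro b hb
  by_cases htop : I = ⊤
  · exact ⟨1, q.ne_top_iff_one.mp (Ideal.IsPrime.ne_top ‹_›), by rw [htop, Ideal.map_top]; trivial⟩
  obtain ⟨t, htI, hIt, hmt⟩ := exists_simple_above htop
  have hlt : I < I ⊔ Ideal.span {t} :=
    lt_of_le_of_ne le_sup_left fun he => htI (he ▸ Ideal.mem_sup_right (Ideal.mem_span_singleton_self t))
  obtain ⟨s, hs, hsb⟩ := IH _ hlt b (Ideal.map_mono le_sup_left hb)
  rw [Ideal.map_sup, Ideal.map_span, Set.image_singleton] at hsb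
  obtain ⟨i, hi, w, hw, hiw⟩ := Submodule.mem_sup.mp hsb
  obtain ⟨d, rfl⟩ := Ideal.mem_span_singleton'.mp hw
  have h1 : algebraMap A B t * (x * d) ∈ I.map (algebraMap A B) := by
    have : algebraMap A B t * (x * d) = s * (x * b) - x * i := by linear_combination x * hiw
    rw [this]
    exact sub_mem (Ideal.mul_mem_left _ s hb) (Ideal.mul_mem_left _ x hi)
  obtain ⟨s₁, hs₁, hs₁d⟩ := locMem_of_flat hIt q ⟨1, q.ne_top_iff_one.mp (Ideal.IsPrime.ne_top ‹_›),
    by rwa [one_mul]⟩
  obtain ⟨s₂, hs₂, hs₂d⟩ := hm (s₁ * d) (by rwa [mul_left_comm])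
  refine ⟨s₂ * s₁ * s, fun hc => ?_, ?_⟩
  · rcases ‹q.IsPrime›.mem_or_mem hc with h | h
    · rcases ‹q.IsPrime›.mem_or_mem h with h | h
      exacts [hs₂ h, hs₁ h]
    · exact hs h
  · have : s₂ * s₁ * s * b = s₂ * s₁ * i + algebraMap A B t * (s₂ * (s₁ * d)) := by
      linear_combination (s₂ * s₁) * hiw.symm
    rw [this]
    exact add_mem (Ideal.mul_mem_left _ _ hi) (mul_mem_map_of_mem_maximal hmt hs₂d)

/-- An ideal of a reduced `(S₂)` ring contained in no prime of height `≤ 1` contains a regular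
sequence of length two starting with any of its regular elements. -/
theorem exists_second_regular {R : Type u} [CommRing R] [IsNoetherianRing R]
    (hS2 : LocCoh.HasSk 2 R R) (J : Ideal R)
    (hJ : ∀ p : Ideal R, p.IsPrime → J ≤ p → 2 ≤ p.height) {x : R} (hxJ : x ∈ J)
    (hx : IsSMulRegular R x) :
    ∃ y ∈ J, ∀ r : R, y * r ∈ Ideal.span {x} → r ∈ Ideal.span {x} := by
  have h2 : ((2 : ℕ) : ℕ∞) ≤ LocCoh.idealDepth J R :=
    Depth99.le_idealDepth_of_hasSk 2 R J hS2 fun p hp _ => by
      rw [CAlg1.supportDim_locSelf]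
      exact WithBot.coe_le_coe.mpr (hJ p.asIdeal p.isPrime hp)
  have h1 := (LC17.natCast_succ_le_idealDepth_iff J hxJ hx 1).mp h2
  obtain ⟨y, hy, hreg⟩ := LC15.exists_regular_of_idealDepth_pos J h1
  refine ⟨y, hy, fun r hr => ?_⟩
  obtain ⟨c, hc⟩ := Ideal.mem_span_singleton'.mp hr
  have h0 : (Submodule.Quotient.mk r : QuotSMulTop x R) = 0 := by
    refine hreg.right_eq_zero_of_smul ?_
    rw [← Submodule.Quotient.mk_smul, Submodule.Quotient.mk_eq_zero,
      Submodule.mem_smul_pointwise_iff_exists]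
    exact ⟨c, trivial, by rw [smul_eq_mul, smul_eq_mul, mul_comm, hc]⟩
  rw [Submodule.Quotient.mk_eq_zero, Submodule.mem_smul_pointwise_iff_exists] at h0
  obtain ⟨e, -, he⟩ := h0
  exact Ideal.mem_span_singleton'.mpr ⟨e, by rw [← he, smul_eq_mul, mul_comm]⟩

theorem height_le_height_comap_mk (p : Ideal (B ⧸ nilradical B)) [p.IsPrime] :
    (p.comap (Ideal.Quotient.mk (nilradical B))).height ≤ p.height := by
  let g : PrimeSpectrum B → PrimeSpectrum (B ⧸ nilradical B) := fun q =>
    ⟨q.asIdeal.map (Ideal.Quotient.mk (nilradical B)),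
      Ideal.map_isPrime_of_surjective Ideal.Quotient.mk_surjective (by
        rw [Ideal.mk_ker]; exact nilradical_le_prime q.asIdeal)⟩
  have hg : StrictMono g := by
    refine Monotone.strictMono_of_injective (fun a b h => Ideal.map_mono h) fun a b h => ?_
    have h' := congrArg (fun z : PrimeSpectrum (B ⧸ nilradical B) =>
      z.asIdeal.comap (Ideal.Quotient.mk (nilradical B))) h
    simp only [g, Ideal.comap_map_of_surjective' _ Ideal.Quotient.mk_surjective, Ideal.mk_ker,
      sup_eq_left.mpr (nilradical_le_prime a.asIdeal),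
      sup_eq_left.mpr (nilradical_le_prime b.asIdeal)] at h'
    exact PrimeSpectrum.ext h'
  have h := Order.height_le_height_apply_of_strictMono g hg
    ⟨p.comap (Ideal.Quotient.mk (nilradical B)), Ideal.IsPrime.comap _⟩
  have e : g ⟨p.comap (Ideal.Quotient.mk (nilradical B)), Ideal.IsPrime.comap _⟩ =
      ⟨p, inferInstance⟩ :=
    PrimeSpectrum.ext (Ideal.map_comap_of_surjective _ Ideal.Quotient.mk_surjective p)
  rw [e, ← PrimeSpectrum.height_eq_orderHeight, ← PrimeSpectrum.height_eq_orderHeight] at h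
  exact h

variable (hS1 : LocCoh.HasSk 1 B B)
  (hS2 : LocCoh.HasSk 2 (B ⧸ nilradical B) (B ⧸ nilradical B))
  (hcodim : ∀ (q : Ideal B) [q.IsPrime], q.height ≤ 1 →
    Module.Flat A (Localization.AtPrime q) ∧ IsReduced (EGA4.FibLocRing A B q))

include hcodim in
theorem locMem_nilradical (q : Ideal B) [q.IsPrime] (hq : q.height ≤ 1) {n : B}
    (hn : n ∈ nilradical B) : LocMem 𝔪 q n := by
  rw [locMem_iff]
  have := (hcodim q hq).2
  have h : (Ideal.Quotient.mk ((q.comap (algebraMap A B)).map (algebraMap A (Localization.AtPrime q))))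
      (algebraMap B _ n) = 0 :=
    IsNilpotent.eq_zero (((mem_nilradical.mp hn).map _).map _)
  rw [Ideal.Quotient.eq_zero_iff_mem, comap_eq_maximal] at h
  exact h

include hS1 hS2 hcodim in
/-- `IB` has no embedded component, for every ideal `I`. -/
theorem mem_of_forall_minimal (I' : Ideal A) :
    ∀ b : B, (∀ q ∈ minimalPrimes B, LocMem I' q b) → b ∈ I'.map (algebraMap A B) := by
  induction I' using WellFoundedLT.induction with
  | ind I' IH =>
  intro b hb
  by_cases hbot : I' = ⊥
  · subst hbot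
    have : b = 0 := eq_zero_of_minimal hS1 fun q hq => by
      obtain ⟨s, hs, hm⟩ := hb q hq
      exact ⟨s, hs, by simpa using hm⟩
    rw [this]; exact zero_mem _
  obtain ⟨I, t, hlt, htI', hIt, hmt, hdec⟩ := exists_simple_below hbot
  set τ := algebraMap A B t
  set IB := I.map (algebraMap A B)
  have hdecB : ∀ z ∈ I'.map (algebraMap A B), ∃ c, z - τ * c ∈ IB := by
    intro z hz
    refine Submodule.span_induction ?_ ⟨0, by simp⟩ ?_ ?_ hz
    · rintro _ ⟨a, ha, rfl⟩
      obtain ⟨c, hc⟩ := hdec a ha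
      refine ⟨algebraMap A B c, ?_⟩
      have := Ideal.mem_map_of_mem (algebraMap A B) hc
      rwa [map_sub, map_mul, mul_comm] at this
    · rintro x y _ _ ⟨c, hc⟩ ⟨c', hc'⟩
      exact ⟨c + c', by simpa [mul_add, add_sub_add_comm] using add_mem hc hc'⟩
    · rintro r x _ ⟨c, hc⟩
      exact ⟨r * c, by simpa [mul_sub, mul_left_comm] using IB.mul_mem_left r hc⟩
  have hτnil : ∀ n ∈ nilradical B, τ * n ∈ IB := fun n hn => IH I hlt _ fun q hq => by
    have := hq.1.1
    obtain ⟨s, hs, hm⟩ := locMem_nilradical hcodim q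
      ((Ideal.height_eq_zero_iff.mpr hq).le.trans zero_le_one) hn
    exact ⟨s, hs, by rw [mul_left_comm]; exact mul_mem_map_of_mem_maximal hmt hm⟩
  have hnil : ∀ d, τ * d ∈ IB → d ∈ nilradical B := fun d hd =>
    mem_nilradical_of_forall_minimal fun q hq => by
      have := hq.1.1
      have := (hcodim q ((Ideal.height_eq_zero_iff.mpr hq).le.trans zero_le_one)).1
      obtain ⟨s, hs, hm⟩ := locMem_of_flat hIt q (m := 𝔪)
        ⟨1, q.ne_top_iff_one.mp hq.1.1.ne_top, by rwa [one_mul]⟩
      exact (hq.1.1.mem_or_mem (map_maximal_le_prime q hm)).resolve_left hs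
  let K : Ideal B := (I'.map (algebraMap A B)).colon {b}
  have hK : ∀ {c}, c ∈ K ↔ c * b ∈ I'.map (algebraMap A B) := Submodule.mem_colon_singleton
  obtain ⟨x, hxK, hx⟩ : ∃ x ∈ K, ∀ p ∈ minimalPrimes B, x ∉ p := by
    by_contra hc
    push Not at hc
    obtain ⟨p, hp, hKp⟩ := (Ideal.subset_union_prime_finite (minimalPrimes.finite_of_isNoetherianRing B)
      (f := id) ⊥ ⊥ (fun i hi _ _ => hi.1.1)).mp fun z hz => by
        obtain ⟨p, hp, hzp⟩ := hc z hz
        exact Set.mem_biUnion hp hzp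
    obtain ⟨s, hs, hm⟩ := hb p hp
    exact hs (hKp (hK.mpr hm))
  set π := Ideal.Quotient.mk (nilradical B)
  have hKh : ∀ q : Ideal B, q.IsPrime → K ≤ q → 2 ≤ q.height := by
    intro q hq hKq
    by_contra hlt2
    have hq1 : q.height ≤ 1 := Order.le_of_lt_add_one (by rw [one_add_one_eq_two]; exact not_le.mp hlt2)
    have := (hcodim q hq1).1
    obtain ⟨s, hs, hm⟩ := cancel_height_one q (fun n hn => locMem_nilradical hcodim q hq1 hn) hx I' b
      (hK.mp hxK)
    exact hs (hKq (hK.mpr hm))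
  have hxreg : IsSMulRegular (B ⧸ nilradical B) (π x) := by
    refine (isSMulRegular_iff_right_eq_zero_of_smul).mpr fun r hr => ?_
    obtain ⟨r, rfl⟩ := Ideal.Quotient.mk_surjective r
    rw [smul_eq_mul, ← map_mul, Ideal.Quotient.eq_zero_iff_mem] at hr
    rw [Ideal.Quotient.eq_zero_iff_mem]
    refine mem_nilradical_of_forall_minimal fun q hq => ?_
    refine (hq.1.1.mem_or_mem ?_).resolve_left (hx q hq)
    exact (haveI := hq.1.1; nilradical_le_prime q hr)
  obtain ⟨y', hy', hreg⟩ := exists_second_regular hS2 (K.map π) (fun p hp hKp => by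
    refine le_trans (hKh _ (Ideal.IsPrime.comap π) (Ideal.map_le_iff_le_comap.mp hKp)) ?_
    exact height_le_height_comap_mk p) (Ideal.mem_map_of_mem π hxK) hxreg
  obtain ⟨y, hyK, rfl⟩ := (Ideal.mem_map_iff_of_surjective π Ideal.Quotient.mk_surjective).mp hy'
  obtain ⟨cx, hcx⟩ := hdecB _ (hK.mp hxK)
  obtain ⟨cy, hcy⟩ := hdecB _ (hK.mp hyK)
  have hcross : y * cx - x * cy ∈ nilradical B := hnil _ (by
    have : τ * (y * cx - x * cy) = x * (y * b - τ * cy) - y * (x * b - τ * cx) := by ring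
    rw [this]
    exact sub_mem (Ideal.mul_mem_left _ _ hcy) (Ideal.mul_mem_left _ _ hcx))
  have hdiv : π cx ∈ Ideal.span {π x} := hreg _ (by
    refine Ideal.mem_span_singleton'.mpr ⟨π cy, ?_⟩
    rw [← map_mul, ← map_mul, Ideal.Quotient.mk_eq_mk_iff_sub_mem]
    simpa [mul_comm] using (nilradical B).neg_mem hcross)
  obtain ⟨e', he⟩ := Ideal.mem_span_singleton'.mp hdiv
  obtain ⟨e, rfl⟩ := Ideal.Quotient.mk_surjective e'
  rw [← map_mul, Ideal.Quotient.mk_eq_mk_iff_sub_mem] at he
  have hfin : x * (b - τ * e) ∈ IB := by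
    have : x * (b - τ * e) = (x * b - τ * cx) - τ * (e * x - cx) := by ring
    rw [this]
    exact sub_mem hcx (hτnil _ he)
  have hbe : b - τ * e ∈ IB := IH I hlt _ fun q hq => ⟨x, hx q hq, hfin⟩
  have : b = (b - τ * e) + τ * e := by ring
  rw [this]
  exact add_mem (Ideal.map_mono hlt.le hbe) (Ideal.mul_mem_right _ _ (Ideal.mem_map_of_mem _ htI'))

include hS1 hS2 hcodim in
theorem nilradical_eq_map : nilradical B = (𝔪).map (algebraMap A B) := by
  refine le_antisymm (fun n hn => mem_of_forall_minimal hS1 hS2 hcodim 𝔪 n fun q hq => ?_) ?_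
  · have := hq.1.1
    exact locMem_nilradical hcodim q ((Ideal.height_eq_zero_iff.mpr hq).le.trans zero_le_one) hn
  · intro z hz
    exact mem_nilradical_of_forall_minimal fun q hq =>
      have := hq.1.1
      map_maximal_le_prime q hz

include hS1 hS2 hcodim in
theorem flat : Module.Flat A B := by
  rw [Module.Flat.iff_rTensor_injective']
  intro I'
  induction I' using WellFoundedLT.induction with
  | ind I' IH =>
  rw [← LinearMap.ker_eq_bot, eq_bot_iff]
  intro z hz
  rw [LinearMap.mem_ker] at hz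
  by_cases hbot : I' = ⊥
  · subst hbot
    exact (Submodule.mem_bot A).mpr (Subsingleton.elim _ _)
  obtain ⟨I, t, hlt, htI', hIt, hmt, hdec⟩ := exists_simple_below hbot
  let ι : I →ₗ[A] I' := Submodule.inclusion hlt.le
  have hsplit : ∀ z : TensorProduct A I' B, ∃ (w : TensorProduct A I B) (d : B),
      z = ι.rTensor B w + (⟨t, htI'⟩ : I') ⊗ₜ[A] d := by
    intro z
    induction z with
    | zero => exact ⟨0, 0, by simp⟩
    | tmul u d =>
      obtain ⟨c, hc⟩ := hdec u u.2
      refine ⟨(⟨_, hc⟩ : I) ⊗ₜ[A] d, c • d, ?_⟩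
      rw [LinearMap.rTensor_tmul, TensorProduct.tmul_smul, TensorProduct.smul_tmul', ← TensorProduct.add_tmul]
      congr 1
      ext
      simp [ι]
    | add z₁ z₂ h₁ h₂ =>
      obtain ⟨w₁, d₁, rfl⟩ := h₁
      obtain ⟨w₂, d₂, rfl⟩ := h₂
      exact ⟨w₁ + w₂, d₁ + d₂, by rw [map_add, TensorProduct.tmul_add]; abel⟩
  obtain ⟨w, d, rfl⟩ := hsplit z
  have hcomp : ∀ w : TensorProduct A I B,
      (I'.subtype.rTensor B) (ι.rTensor B w) = I.subtype.rTensor B w := fun w => by
    rw [← LinearMap.rTensor_comp_apply]; rfl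
  have hmemI : ∀ w : TensorProduct A I B,
      TensorProduct.lid A B (I.subtype.rTensor B w) ∈ I.map (algebraMap A B) := fun w => by
    induction w with
    | zero => simp
    | tmul u d =>
      simp only [LinearMap.rTensor_tmul, TensorProduct.lid_tmul, Submodule.subtype_apply,
        Algebra.smul_def]
      exact Ideal.mul_mem_right _ _ (Ideal.mem_map_of_mem _ u.2)
    | add a b ha hb => rw [map_add, map_add]; exact add_mem ha hb
  have h0 := congrArg (TensorProduct.lid A B) hz
  rw [map_add, map_add, hcomp, LinearMap.rTensor_tmul, TensorProduct.lid_tmul, map_zero,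
    Submodule.subtype_apply, Algebra.smul_def] at h0
  have htd : algebraMap A B t * d ∈ I.map (algebraMap A B) := by
    rw [eq_neg_of_add_eq_zero_right h0]
    exact neg_mem (hmemI w)
  have hd : d ∈ (𝔪).map (algebraMap A B) := by
    rw [← nilradical_eq_map hS1 hS2 hcodim]
    refine mem_nilradical_of_forall_minimal fun q hq => ?_
    have := hq.1.1
    have := (hcodim q ((Ideal.height_eq_zero_iff.mpr hq).le.trans zero_le_one)).1
    obtain ⟨s, hs, hm⟩ := locMem_of_flat hIt q (m := 𝔪)
      ⟨1, q.ne_top_iff_one.mp hq.1.1.ne_top, by rwa [one_mul]⟩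
    exact (hq.1.1.mem_or_mem (map_maximal_le_prime q hm)).resolve_left hs
  have htens : (⟨t, htI'⟩ : I') ⊗ₜ[A] d ∈ LinearMap.range (ι.rTensor B) := by
    refine Submodule.span_induction ?_ ?_ ?_ ?_ hd (p := fun d _ => ∀ c : B,
      (⟨t, htI'⟩ : I') ⊗ₜ[A] (c * d) ∈ LinearMap.range (ι.rTensor B)) |> fun h => by
        simpa using h 1
    · rintro _ ⟨a, ha, rfl⟩ c
      refine ⟨(⟨a * t, hmt a ha⟩ : I) ⊗ₜ[A] c, ?_⟩
      have e : c * algebraMap A B a = a • c := by rw [Algebra.smul_def, mul_comm]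
      rw [LinearMap.rTensor_tmul, e, TensorProduct.tmul_smul, TensorProduct.smul_tmul']
      rfl
    · intro c; simp
    · intro x y _ _ hx hy c
      rw [mul_add, TensorProduct.tmul_add]
      exact add_mem (hx c) (hy c)
    · intro r x _ hx c
      rw [smul_eq_mul, ← mul_assoc]
      exact hx (c * r)
  obtain ⟨w', hw'⟩ := htens
  rw [← hw', ← map_add] at hz ⊢
  rw [hcomp] at hz
  have := IH I hlt (hz.trans (map_zero _).symm)
  rw [this, map_zero]
  exact zero_mem _

end main

end Groth.Agent.Fam20.CodimOne
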