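import Mathlib
import Groth.Prelude.Def_W4c1famcyclesFFR

/-! The determinant of an endomorphism of a module with a finite free resolution. -/

universe u

open Polynomial TensorProduct

namespace Groth.Agent.Fam20

/-- Characteristic polynomials multiply along an invariant submodule. -/
theorem charpoly_eq_mul {R V : Type*} [CommRing R] [AddCommGroup V] [Module R V]
    [Module.Free R V] [Module.Finite R V] (W : Submodule R V) [Module.Free R W] [Module.Finite R W]
    [Module.Free R (V ⧸ W)] (e : V →ₗ[R] V) (he : W ≤ W.comap e) :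
    e.charpoly = (e.restrict he).charpoly * (W.mapQ W e he).charpoly := by
  classical
  let bW := Module.Free.chooseBasis R W
  let bQ := Module.Free.chooseBasis R (V ⧸ W)
  let b := Module.Basis.sumQuot bW bQ
  have : LinearMap.toMatrix b b e = Matrix.fromBlocks (LinearMap.toMatrix bW bW (e.restrict he))
      (Matrix.of fun i l => (b.repr (e (b (Sum.inr l)))) (Sum.inl i)) 0
      (LinearMap.toMatrix bQ bQ (W.mapQ W e he)) := by
    ext u v
    cases u with
    | inl i =>
      cases v with
      | inl k =>
        simp only [b, Module.Basis.sumQuot_inl, Matrix.fromBlocks_apply₁₁, LinearMap.toMatrix_apply]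
        apply Module.Basis.sumQuot_repr_inl_of_mem
      | inr l => simp [LinearMap.toMatrix_apply, Matrix.fromBlocks_apply₁₂]
    | inr j =>
      cases v with
      | inl k =>
        suffices W.mkQ (e (bW k)) = 0 by simp [LinearMap.toMatrix_apply, b, this]
        rw [← LinearMap.mem_ker, Submodule.ker_mkQ]
        exact he (Submodule.coe_mem (bW k))
      | inr l =>
        simp only [LinearMap.toMatrix_apply, Module.Basis.sumQuot_repr_inr,
          Matrix.fromBlocks_apply₂₂, b]
        rw [← Module.Basis.sumQuot_inr bW bQ l, W.mapQ_apply]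
        simp
  rw [← LinearMap.charpoly_toMatrix e b, this, Matrix.charpoly_fromBlocks_zero₂₁,
    LinearMap.charpoly_toMatrix, LinearMap.charpoly_toMatrix]

/-- Characteristic polynomials multiply in short exact sequences of finite free modules over a
local ring. -/
theorem charpoly_eq_mul_of_exact {R : Type*} [CommRing R] [IsLocalRing R] {K F M : Type*}
    [AddCommGroup K] [Module R K] [AddCommGroup F] [Module R F] [Module.Free R F]
    [Module.Finite R F] [AddCommGroup M] [Module R M] [Module.Free R M]
    (i : K →ₗ[R] F) (f : F →ₗ[R] M) (hi : Function.Injective i) (hf : Function.Surjective f)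
    (hex : Function.Exact i f) (a : K →ₗ[R] K) (b : F →ₗ[R] F) (c : M →ₗ[R] M)
    (hab : b ∘ₗ i = i ∘ₗ a) (hbc : f ∘ₗ b = c ∘ₗ f) :
    ∃ (_ : Module.Free R K) (_ : Module.Finite R K) (_ : Module.Finite R M),
      b.charpoly = a.charpoly * c.charpoly := by
  obtain ⟨s, hs⟩ := Module.projective_lifting_property f LinearMap.id hf
  have hs' : ∀ y, f (s y) = y := LinearMap.congr_fun hs
  have : Module.Finite R M := Module.Finite.of_surjective f hf
  let π : F →ₗ[R] F := LinearMap.id - s ∘ₗ f
  have hπ : ∀ x, π x ∈ LinearMap.ker f := fun x => by simp [π, hs']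
  have : Module.Finite R (LinearMap.ker f) := by
    refine Module.Finite.of_surjective (π.codRestrict _ hπ) fun ⟨x, hx⟩ => ⟨x, Subtype.ext ?_⟩
    simp [π, LinearMap.mem_ker.mp hx]
  have : Module.Projective R (LinearMap.ker f) :=
    Module.Projective.of_split (LinearMap.ker f).subtype (π.codRestrict _ hπ)
      (LinearMap.ext fun ⟨x, hx⟩ => Subtype.ext (by simp [π, LinearMap.mem_ker.mp hx]))
  have : Module.Free R (LinearMap.ker f) := Module.free_of_flat_of_isLocalRing
  let eK : K ≃ₗ[R] LinearMap.ker f := (LinearEquiv.ofInjective i hi).trans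
    (LinearEquiv.ofEq _ _ hex.linearMap_ker_eq.symm)
  have := Module.Finite.equiv eK.symm
  have := Module.Free.of_equiv eK.symm
  let eM : (F ⧸ LinearMap.ker f) ≃ₗ[R] M := f.quotKerEquivOfSurjective hf
  have := Module.Free.of_equiv eM.symm
  have := Module.Finite.equiv eM.symm
  have he : LinearMap.ker f ≤ (LinearMap.ker f).comap b := fun x hx => by
    show f (b x) = 0
    rw [← LinearMap.comp_apply, hbc, LinearMap.comp_apply, LinearMap.mem_ker.mp hx, map_zero]
  refine ⟨‹_›, ‹_›, ‹_›, ?_⟩
  rw [charpoly_eq_mul (LinearMap.ker f) b he, ← LinearEquiv.charpoly_conj eK a,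
    ← LinearEquiv.charpoly_conj eM]
  congr 2
  · refine LinearMap.ext fun x => ?_
    obtain ⟨x, rfl⟩ := eK.surjective x
    rw [LinearEquiv.conj_apply_apply, LinearEquiv.symm_apply_apply]
    exact Subtype.ext (LinearMap.congr_fun hab x)
  · refine LinearMap.ext fun y => ?_
    obtain ⟨x, rfl⟩ := hf y
    rw [LinearEquiv.conj_apply_apply]
    have : eM.symm (f x) = Submodule.Quotient.mk x := eM.symm_apply_eq.mpr rfl
    rw [this, Submodule.mapQ_apply]
    exact LinearMap.congr_fun hbc x

theorem map_comp' {A : Type*} [CommRing A] (S : Submonoid A) {M N P : Type*} [AddCommGroup M]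
    [Module A M] [AddCommGroup N] [Module A N] [AddCommGroup P] [Module A P] (g : N →ₗ[A] P)
    (h : M →ₗ[A] N) :
    LocalizedModule.map S (g ∘ₗ h) = (LocalizedModule.map S g) ∘ₗ (LocalizedModule.map S h) := by
  refine LinearMap.ext fun x => ?_
  induction x using LocalizedModule.induction_on with
  | _ m s => simp [LocalizedModule.map_mk]

theorem exact_map {A : Type*} [CommRing A] (S : Submonoid A) {M N P : Type*} [AddCommGroup M]
    [Module A M] [AddCommGroup N] [Module A N] [AddCommGroup P] [Module A P] (g : M →ₗ[A] N)
    (h : N →ₗ[A] P) (ex : Function.Exact g h) :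
    Function.Exact (LocalizedModule.map S g) (LocalizedModule.map S h) :=
  LocalizedModule.map_exact S g h ex

theorem injective_map {A : Type*} [CommRing A] (S : Submonoid A) {M N : Type*} [AddCommGroup M]
    [Module A M] [AddCommGroup N] [Module A N] (g : M →ₗ[A] N) (hg : Function.Injective g) :
    Function.Injective (LocalizedModule.map S g) :=
  IsLocalizedModule.map_injective S (LocalizedModule.mkLinearMap S M)
    (LocalizedModule.mkLinearMap S N) g hg

theorem surjective_map {A : Type*} [CommRing A] (S : Submonoid A) {M N : Type*} [AddCommGroup M]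
    [Module A M] [AddCommGroup N] [Module A N] (g : M →ₗ[A] N) (hg : Function.Surjective g) :
    Function.Surjective (LocalizedModule.map S g) :=
  IsLocalizedModule.map_surjective S (LocalizedModule.mkLinearMap S M)
    (LocalizedModule.mkLinearMap S N) g hg

theorem charpoly_map_free {A : Type u} [CommRing A] (S : Submonoid A) {M : Type u}
    [AddCommGroup M] [Module A M] [Module.Free A M] [Module.Finite A M] (φ : M →ₗ[A] M) :
    ∃ (_ : Module.Free (Localization S) (LocalizedModule S M))
      (_ : Module.Finite (Localization S) (LocalizedModule S M)),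
      (LocalizedModule.map S φ).charpoly = φ.charpoly.map (algebraMap A (Localization S)) := by
  let E := LocalizedModule.equivTensorProduct S M
  have := Module.Free.of_equiv E.symm
  have := Module.Finite.equiv E.symm
  refine ⟨‹_›, ‹_›, ?_⟩
  rw [← LinearMap.charpoly_baseChange φ (Localization S), ← LinearEquiv.charpoly_conj E]
  congr 1
  refine LinearMap.ext fun x => ?_
  obtain ⟨y, rfl⟩ := E.surjective x
  rw [LinearEquiv.conj_apply_apply, LinearEquiv.symm_apply_apply]
  induction y using LocalizedModule.induction_on with
  | _ m s => simp [E, LocalizedModule.map_mk]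

theorem one_tmul_eq_zero_iff {R N : Type*} [CommRing R] [IsLocalRing R] [AddCommGroup N]
    [Module R N] (w : N) :
    (1 : IsLocalRing.ResidueField R) ⊗ₜ[R] w = 0 ↔
      w ∈ IsLocalRing.maximalIdeal R • (⊤ : Submodule R N) := by
  have h := LinearMap.ker_tensorProductMk (R := R) (Q := N) (I := IsLocalRing.maximalIdeal R)
  rw [← h]
  rfl

variable {A : Type u} [CommRing A]

/-- A pair of monic polynomials whose quotient is the characteristic polynomial at every prime
where the module is free. -/
theorem exists_charpoly_pair :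
    ∀ (n : ℕ) (M : Type u) [AddCommGroup M] [Module A M],
      FamCyc.HasFiniteFreeResolutionLE A n M → ∀ φ : M →ₗ[A] M,
        ∃ P Q : A[X], P.Monic ∧ Q.Monic ∧ ∀ (p : Ideal A) [p.IsPrime],
          Module.Free (Localization.AtPrime p) (LocalizedModule p.primeCompl M) →
            ∃ (_ : Module.Free (Localization.AtPrime p) (LocalizedModule p.primeCompl M))
              (_ : Module.Finite (Localization.AtPrime p) (LocalizedModule p.primeCompl M)),
              P.map (algebraMap A (Localization.AtPrime p)) =
                (LocalizedModule.map p.primeCompl φ).charpoly *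
                  Q.map (algebraMap A (Localization.AtPrime p))
  | 0, M, _, _, hM, φ => by
    obtain ⟨hfree, hfin⟩ := hM
    refine ⟨φ.charpoly, 1, φ.charpoly_monic, monic_one, fun p _ _ => ?_⟩
    obtain ⟨h₁, h₂, h⟩ := charpoly_map_free p.primeCompl φ
    exact ⟨h₁, h₂, by rw [h, Polynomial.map_one, mul_one]⟩
  | n + 1, M, _, _, hM, φ => by
    obtain ⟨k, f, hf, hK⟩ := hM
    obtain ⟨ψ, hψ⟩ := Module.projective_lifting_property f (φ ∘ₗ f) hf
    have hinv : ∀ x ∈ LinearMap.ker f, ψ x ∈ LinearMap.ker f := fun x hx => by
      rw [LinearMap.mem_ker, ← LinearMap.comp_apply, hψ, LinearMap.comp_apply,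
        LinearMap.mem_ker.mp hx, map_zero]
    obtain ⟨P, Q, hP, hQ, hPQ⟩ := exists_charpoly_pair n (LinearMap.ker f) hK (ψ.restrict hinv)
    refine ⟨ψ.charpoly * Q, P, ψ.charpoly_monic.mul hQ, hP, fun p _ hfree => ?_⟩
    obtain ⟨hF₁, hF₂, hF⟩ := charpoly_map_free p.primeCompl ψ
    obtain ⟨hK₁, hK₂, hM₂, hchar⟩ := charpoly_eq_mul_of_exact
      (R := Localization.AtPrime p)
      (K := LocalizedModule p.primeCompl (LinearMap.ker f))
      (F := LocalizedModule p.primeCompl (Fin k → A))
      (M := LocalizedModule p.primeCompl M)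
      (LocalizedModule.map p.primeCompl (LinearMap.ker f).subtype)
      (LocalizedModule.map p.primeCompl f)
      (injective_map _ _ (LinearMap.ker f).injective_subtype) (surjective_map _ _ hf)
      (exact_map _ _ _ f.exact_subtype_ker_map)
      (LocalizedModule.map p.primeCompl (ψ.restrict hinv)) (LocalizedModule.map p.primeCompl ψ)
      (LocalizedModule.map p.primeCompl φ)
      (by rw [← map_comp', ← map_comp']; rfl) (by rw [← map_comp', ← map_comp', hψ])
    obtain ⟨_, _, hK'⟩ := hPQ p hK₁
    refine ⟨hfree, hM₂, ?_⟩
    rw [Polynomial.map_mul, ← hF, hchar, hK']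
    ring

/-- An element restricting to the determinant at every prime where the module is free. -/
theorem exists_det {n : ℕ} {M : Type u} [AddCommGroup M] [Module A M]
    (hM : FamCyc.HasFiniteFreeResolutionLE A n M) (φ : M →ₗ[A] M) :
    ∃ a : A, ∀ (p : Ideal A) [p.IsPrime],
      Module.Free (Localization.AtPrime p) (LocalizedModule p.primeCompl M) →
        algebraMap A (Localization.AtPrime p) a =
          LinearMap.det (LocalizedModule.map p.primeCompl φ) := by
  obtain ⟨P, Q, hP, hQ, hPQ⟩ := exists_charpoly_pair n M hM φ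
  refine ⟨(-1) ^ (P.natDegree - Q.natDegree) * (P /ₘ Q).coeff 0, fun p _ hfree => ?_⟩
  obtain ⟨_, _, h⟩ := hPQ p hfree
  have hd : Module.finrank (Localization.AtPrime p) (LocalizedModule p.primeCompl M) =
      P.natDegree - Q.natDegree := by
    have := congrArg Polynomial.natDegree h
    rw [hP.natDegree_map, (LinearMap.charpoly_monic _).natDegree_mul (hQ.map _),
      hQ.natDegree_map, LinearMap.charpoly_natDegree] at this
    rw [this, Nat.add_sub_cancel]
  rw [map_mul, map_pow, map_neg, map_one, ← Polynomial.coeff_map, Polynomial.map_divByMonic _ hQ,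
    LinearMap.det_eq_sign_charpoly_coeff, hd]
  congr 2
  rw [h, mul_comm]
  exact Polynomial.mul_divByMonic_cancel_left _ (hQ.map _)

/-- Over a local ring of depth zero a module with a finite free resolution is free. -/
theorem free_of_resolution [IsNoetherianRing A] (p : Ideal A) [p.IsPrime]
    {z : Localization.AtPrime p} (hz0 : z ≠ 0)
    (hz : ∀ r ∈ IsLocalRing.maximalIdeal (Localization.AtPrime p), r * z = 0) :
    ∀ (n : ℕ) (M : Type u) [AddCommGroup M] [Module A M],
      FamCyc.HasFiniteFreeResolutionLE A n M →
        Module.Free (Localization.AtPrime p) (LocalizedModule p.primeCompl M) ∧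
          Module.Finite (Localization.AtPrime p) (LocalizedModule p.primeCompl M)
  | 0, M, _, _, hM => by
    obtain ⟨_, _⟩ := hM
    obtain ⟨h₁, h₂, -⟩ := charpoly_map_free p.primeCompl (LinearMap.id : M →ₗ[A] M)
    exact ⟨h₁, h₂⟩
  | n + 1, M, _, _, hM => by
    obtain ⟨k, f, hf, hK⟩ := hM
    obtain ⟨hK₁, hK₂⟩ := free_of_resolution p hz0 hz n (LinearMap.ker f) hK
    obtain ⟨hF₁, hF₂, -⟩ :=
      charpoly_map_free p.primeCompl (LinearMap.id : (Fin k → A) →ₗ[A] (Fin k → A))
    let u := LocalizedModule.map p.primeCompl (LinearMap.ker f).subtype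
    let g := LocalizedModule.map p.primeCompl f
    have hu : Function.Injective u := injective_map _ _ (LinearMap.ker f).injective_subtype
    have hg : Function.Surjective g := surjective_map _ _ hf
    have hex : Function.Exact u g := exact_map _ _ _ f.exact_subtype_ker_map
    have := Module.Finite.of_surjective g hg
    refine ⟨Module.free_of_lTensor_residueField_injective (R := Localization.AtPrime p)
      (M := LocalizedModule p.primeCompl (LinearMap.ker f)) u g hg hex ?_, this⟩
    rw [injective_iff_map_eq_zero]
    intro y hy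
    obtain ⟨x, rfl⟩ := TensorProduct.mk_surjective (Localization.AtPrime p) _
      (IsLocalRing.ResidueField (Localization.AtPrime p)) Ideal.Quotient.mk_surjective y
    rw [TensorProduct.mk_apply, LinearMap.lTensor_tmul, one_tmul_eq_zero_iff] at hy
    have hzx : z • x = 0 := hu (by
      rw [map_smul, map_zero]
      refine Submodule.smul_induction_on hy (fun r hr m _ => ?_) fun a b ha hb => ?_
      · rw [smul_smul, mul_comm, hz r hr, zero_smul]
      · rw [smul_add, ha, hb, add_zero])
    let B := Module.Free.chooseBasis (Localization.AtPrime p)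
      (LocalizedModule p.primeCompl (LinearMap.ker f))
    refine (one_tmul_eq_zero_iff (R := Localization.AtPrime p) x).mpr ?_
    rw [← B.linearCombination_repr x, Finsupp.linearCombination_apply]
    refine Submodule.sum_mem _ fun i _ => Submodule.smul_mem_smul ?_ trivial
    by_contra hi
    have h1 : z * B.repr x i = 0 := by
      simpa using congrArg (fun w => B.repr w i) hzx
    rw [IsLocalRing.mem_maximalIdeal, mem_nonunits_iff, not_not] at hi
    exact hz0 (hi.mul_left_eq_zero.mp h1)

/-- Uniqueness: elements agreeing at all primes where the module is free are equal. -/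
theorem eq_of_free_primes [IsNoetherianRing A] {n : ℕ} {M : Type u} [AddCommGroup M] [Module A M]
    (hM : FamCyc.HasFiniteFreeResolutionLE A n M) {a b : A}
    (h : ∀ (p : Ideal A) [p.IsPrime],
      Module.Free (Localization.AtPrime p) (LocalizedModule p.primeCompl M) →
        algebraMap A (Localization.AtPrime p) a = algebraMap A (Localization.AtPrime p) b) :
    a = b := by
  by_contra hne
  obtain ⟨P, hP, hle⟩ := exists_le_isAssociatedPrime_of_isNoetherianRing (R := A) (a - b)
    (sub_ne_zero.mpr hne)
  obtain ⟨hprime, y, hy⟩ := Submodule.isAssociatedPrime_iff.mp hP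
  have := hprime
  have hz0 : algebraMap A (Localization.AtPrime P) y ≠ 0 := fun h0 => by
    obtain ⟨⟨s, hs⟩, hsy⟩ := (IsLocalization.map_eq_zero_iff P.primeCompl _ _).mp h0
    exact hs (hy ▸ Submodule.mem_colon_singleton.mpr ((Submodule.mem_bot A).mpr hsy))
  have hz : ∀ r ∈ IsLocalRing.maximalIdeal (Localization.AtPrime P),
      r * algebraMap A (Localization.AtPrime P) y = 0 := by
    intro r hr
    obtain ⟨c, s, rfl⟩ := IsLocalization.exists_mk'_eq P.primeCompl r
    rw [IsLocalization.AtPrime.mk'_mem_maximal_iff (Localization.AtPrime P) P, hy, Submodule.mem_colon_singleton,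
      Submodule.mem_bot, smul_eq_mul] at hr
    rw [mul_comm, IsLocalization.mul_mk'_eq_mk'_of_mul, mul_comm y c, hr]
    exact IsLocalization.mk'_zero _
  have h0 : algebraMap A (Localization.AtPrime P) (a - b) = 0 := by
    rw [map_sub, h P (free_of_resolution P hz0 hz n M hM).1, sub_self]
  obtain ⟨⟨s, hs⟩, hsy⟩ := (IsLocalization.map_eq_zero_iff P.primeCompl _ _).mp h0
  exact hs (hle (Submodule.mem_colon_singleton.mpr ((Submodule.mem_bot A).mpr hsy)))

end Groth.Agent.Fam20
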