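import Mathlib
import Groth.Agent.CAlg1.EtaleShrink

/-! Extending morphisms to smooth schemes along etale neighbourhoods of closed subschemes. -/

universe u

open CategoryTheory AlgebraicGeometry Limits

namespace Groth.Agent.Fam20

/-- Morphisms into an affine `Spec` are determined by their ring maps. -/
theorem hom_spec_ext {T : Scheme.{u}} {R : CommRingCat.{u}} {a b : T ⟶ Spec R}
    (h : (Scheme.ΓSpecIso R).inv ≫ a.appTop = (Scheme.ΓSpecIso R).inv ≫ b.appTop) : a = b :=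
  ext_of_isAffine ((cancel_epi (Scheme.ΓSpecIso R).inv).mp h)

theorem appTop_comp_specMap {T : Scheme.{u}} {R R' : CommRingCat.{u}} (b : T ⟶ Spec R)
    (g : R' ⟶ R) :
    (Scheme.ΓSpecIso R').inv ≫ (b ≫ Spec.map g).appTop =
      g ≫ (Scheme.ΓSpecIso R).inv ≫ b.appTop := by
  rw [Scheme.Hom.comp_appTop]
  simp

/-- If `A' / I A' = A / I` then the preimage of `Spec A/I` in `Spec A'` is `Spec A/I`. -/
theorem isPullback_specMap {A A' R : CommRingCat.{u}} (alg : A ⟶ A') (φ : A ⟶ R) (ψ : A' ⟶ R)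
    (hφ : Function.Surjective φ) (w : alg ≫ ψ = φ)
    (hker : RingHom.ker ψ.hom ≤ (RingHom.ker φ.hom).map alg.hom) :
    IsPullback (Spec.map ψ) (𝟙 _) (Spec.map alg) (Spec.map φ) := by
  refine IsPullback.of_isLimit' ⟨by rw [← Spec.map_comp, w, Category.id_comp]⟩
    (PullbackCone.IsLimit.mk _ (fun s => s.snd) (fun s => ?_) (fun s => Category.comp_id _)
      (fun s m _ h2 => by simpa using h2))
  apply hom_spec_ext
  rw [appTop_comp_specMap]
  have hc := congrArg (fun t => (Scheme.ΓSpecIso A).inv ≫ Scheme.Hom.appTop t) s.condition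
  rw [appTop_comp_specMap, appTop_comp_specMap] at hc
  generalize (Scheme.ΓSpecIso A').inv ≫ s.fst.appTop = a at hc ⊢
  generalize (Scheme.ΓSpecIso R).inv ≫ s.snd.appTop = b at hc ⊢
  have h0 : (RingHom.ker φ.hom).map alg.hom ≤ RingHom.ker a.hom := Ideal.map_le_iff_le_comap.mpr
    fun x hx => by
      have := ConcreteCategory.congr_hom hc x
      simp only [CommRingCat.comp_apply] at this
      rw [show φ x = 0 from hx, map_zero] at this
      exact this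
  ext z
  obtain ⟨c, hc'⟩ := hφ (ψ z)
  have hψ : ψ (alg c) = ψ z := (ConcreteCategory.congr_hom w c).trans hc'
  have hz : z - alg c ∈ RingHom.ker a.hom := h0 (hker (by
    show ψ.hom (z - alg c) = 0
    rw [map_sub]; exact sub_eq_zero.mpr hψ.symm))
  rw [RingHom.mem_ker, map_sub, sub_eq_zero] at hz
  have h1 : a (alg c) = b (φ c) := ConcreteCategory.congr_hom hc c
  show b (ψ z) = a z
  rw [← hc', ← h1]
  exact hz.symm

theorem exists_affine_data {X W X₀ : Scheme.{u}} (h : W ⟶ X) (j : X₀ ⟶ X) [IsClosedImmersion j]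
    (σ : X₀ ⟶ W) (hσ : σ ≫ h = j) (x₀ : X₀) :
    ∃ (D : X.Opens) (U : W.Opens), IsAffineOpen D ∧ IsAffineOpen U ∧ U ≤ h ⁻¹ᵁ D ∧
      j ⁻¹ᵁ D ≤ σ ⁻¹ᵁ U ∧ x₀ ∈ j ⁻¹ᵁ D := by
  obtain ⟨D₁, hD₁, hxD₁, -⟩ := exists_isAffineOpen_mem_and_subset (Set.mem_univ (j x₀))
    (U := (⊤ : X.Opens))
  have hw : σ x₀ ∈ h ⁻¹ᵁ D₁ := by
    show h (σ x₀) ∈ D₁
    rw [← Scheme.Hom.comp_apply, hσ]; exact hxD₁
  obtain ⟨V, hV, hwV, hVD⟩ := exists_isAffineOpen_mem_and_subset hw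
  obtain ⟨O, hO, hOeq⟩ := j.isClosedEmbedding.isEmbedding.isOpen_iff.mp (σ ⁻¹ᵁ V).isOpen
  have hxO : j x₀ ∈ (⟨O, hO⟩ : X.Opens) ⊓ D₁ := by
    refine ⟨?_, hxD₁⟩
    show x₀ ∈ j ⁻¹' O
    rw [hOeq]; exact hwV
  obtain ⟨r, hr, hxr⟩ := hD₁.exists_basicOpen_le ⟨j x₀, hxO⟩ hxD₁
  refine ⟨X.basicOpen r, W.basicOpen (h.appLE D₁ V hVD r), hD₁.basicOpen r, hV.basicOpen _,
    ?_, ?_, hxr⟩
  · simp [Scheme.Hom.appLE]
  · intro y hy
    have hyV : y ∈ (σ ⁻¹ᵁ V : Set X₀) := by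
      rw [← hOeq]; exact (hr hy).1
    have hyD : h (σ y) ∈ X.basicOpen r := by
      rw [← Scheme.Hom.comp_apply, hσ]; exact hy
    show σ y ∈ W.basicOpen (h.appLE D₁ V hVD r)
    simp only [Scheme.Hom.appLE, CommRingCat.comp_apply, Scheme.basicOpen_res,
      ← Scheme.preimage_basicOpen]
    exact ⟨hyV, hyD⟩

theorem exists_etale_extend {X W X₀ : Scheme.{u}} (h : W ⟶ X) [Smooth h] (j : X₀ ⟶ X)
    [IsClosedImmersion j] (σ : X₀ ⟶ W) (hσ : σ ≫ h = j) (x₀ : X₀) :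
    ∃ (U : Scheme.{u}) (e : U ⟶ X) (g : U ⟶ W), Etale e ∧ g ≫ h = e ∧
      IsOpenImmersion (pullback.snd e j) ∧
      x₀ ∈ Set.range (pullback.snd e j).base ∧
      pullback.snd e j ≫ σ = pullback.fst e j ≫ g := by
  obtain ⟨D, U, hD, hU, hUD, hQU, hxQ⟩ := exists_affine_data h j σ hσ x₀
  have hQ : IsAffineOpen (j ⁻¹ᵁ D) := hD.preimage j
  let φ := j.app D
  have hφ : Function.Surjective φ := j.app_surjective D hD
  let hb := h.appLE D U hUD
  let sb := σ.appLE U (j ⁻¹ᵁ D) hQU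
  have hcomp : hb ≫ sb = φ := by
    simp only [hb, sb, φ, Scheme.Hom.appLE_comp_appLE]
    subst hσ
    simp [Scheme.Hom.appLE]
  let I : Ideal Γ(X, D) := RingHom.ker φ.hom
  let E : (Γ(X, D) ⧸ I) ≃+* Γ(X₀, j ⁻¹ᵁ D) := RingHom.quotientKerEquivOfSurjective hφ
  algebraize [hb.hom]
  have : Algebra.Smooth Γ(X, D) Γ(W, U) := h.smooth_appLE hD hU hUD
  let s₀ : Γ(W, U) →ₐ[Γ(X, D)] Γ(X, D) ⧸ I :=
    { E.symm.toRingHom.comp sb.hom with
      commutes' := fun a => by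
        show E.symm (sb (hb a)) = Ideal.Quotient.mk I a
        rw [← CommRingCat.comp_apply, hcomp]
        exact E.symm_apply_eq.mpr rfl }
  obtain ⟨A', _, _, het, hbij, τ, hτ⟩ := Groth.Agent.CAlg1.exists_etale_lift_section I s₀
  let Q := RingEquiv.ofBijective _ hbij
  let ψ : CommRingCat.of A' ⟶ Γ(X₀, j ⁻¹ᵁ D) :=
    CommRingCat.ofHom ((E.toRingHom.comp Q.symm.toRingHom).comp
      (Ideal.Quotient.mk (I.map (algebraMap Γ(X, D) A'))))
  let alg : Γ(X, D) ⟶ CommRingCat.of A' := CommRingCat.ofHom (algebraMap Γ(X, D) A')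
  have hw : alg ≫ ψ = φ := by
    ext a
    show E (Q.symm (Ideal.Quotient.mk _ (algebraMap Γ(X, D) A' a))) = φ a
    rw [show Q.symm (Ideal.Quotient.mk _ (algebraMap Γ(X, D) A' a)) = Ideal.Quotient.mk I a from
      Q.symm_apply_eq.mpr rfl]
    rfl
  have hψ : CommRingCat.ofHom τ.toRingHom ≫ ψ = sb := by
    ext b
    show E (Q.symm (Ideal.Quotient.mk _ (τ b))) = sb b
    rw [hτ, show Q.symm (algebraMap (Γ(X, D) ⧸ I) _ (s₀ b)) = s₀ b from
      Q.symm_apply_eq.mpr rfl]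
    exact E.apply_symm_apply _
  have hsq := (isPullback_specMap alg φ ψ hφ hw (fun z hz => by
      have h1 : E (Q.symm (Ideal.Quotient.mk _ z)) = 0 := hz
      rw [map_eq_zero_iff _ E.injective, map_eq_zero_iff _ Q.symm.injective,
        Ideal.Quotient.eq_zero_iff_mem] at h1
      exact h1)).paste_vert
    (IsOpenImmersion.isPullback (Spec.map φ) hQ.fromSpec hD.fromSpec j
      (by simp only [φ]; rw [← Scheme.Hom.appLE_eq_app, IsAffineOpen.SpecMap_appLE_fromSpec])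
      (by rw [hD.opensRange_fromSpec, hQ.opensRange_fromSpec]))
  rw [Category.id_comp] at hsq
  have hτh : hb ≫ CommRingCat.ofHom τ.toRingHom = alg := by
    ext a
    exact τ.commutes a
  have : Etale (Spec.map alg) := HasRingHomProperty.Spec_iff.mpr
    (RingHom.etale_algebraMap.mpr het)
  refine ⟨_, Spec.map alg ≫ hD.fromSpec, Spec.map (CommRingCat.ofHom τ.toRingHom) ≫ hU.fromSpec,
    inferInstance, ?_, ?_, ?_, ?_⟩
  · rw [← hτh, Spec.map_comp, Category.assoc, Category.assoc,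
      IsAffineOpen.SpecMap_appLE_fromSpec h hD hU hUD]
  · rw [← hsq.isoPullback_inv_snd]; infer_instance
  · obtain ⟨y, hy⟩ := hQ.range_fromSpec.ge hxQ
    exact ⟨hsq.isoPullback.hom y, by
      rw [← Scheme.Hom.comp_apply, hsq.isoPullback_hom_snd]; exact hy⟩
  · rw [← cancel_epi hsq.isoPullback.hom, hsq.isoPullback_hom_snd_assoc,
      hsq.isoPullback_hom_fst_assoc, ← Category.assoc (Spec.map ψ), ← Spec.map_comp, hψ,
      IsAffineOpen.SpecMap_appLE_fromSpec σ hU hQ hQU]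

end Groth.Agent.Fam20
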