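import Mathlib
import Groth.Prelude.Def_PolLaw
import Groth.Prelude.Def_FrobAlg

/-! The Frobenius law of the perfection and its kernel. -/

universe u

open scoped TensorProduct

namespace Groth.Agent.Fam20

variable (p : ℕ) [Fact p.Prime] (k : Type u) [CommRing k] [CharP k p]

theorem add_pow_of_algebra (S : Type u) [CommSemiring S] [Algebra k S] (x y : S) :
    (x + y) ^ p = x ^ p + y ^ p := by
  obtain ⟨r, hr⟩ := exists_add_pow_prime_eq (Fact.out : p.Prime) x y
  have hp : (p : S) = 0 := by
    rw [← map_natCast (algebraMap k S) p, CharP.cast_eq_zero, map_zero]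
  rw [hr, hp]
  simp

noncomputable def frobMap (S : Type u) [CommSemiring S] [Algebra k S] :
    S ⊗[k] FrobAlg.Twist p k →+ S ⊗[k] k :=
  TensorProduct.liftAddHom
    { toFun := fun s =>
        { toFun := fun a => (s ^ p) ⊗ₜ[k] (FrobAlg.toTwist p k).symm a
          map_zero' := by rw [map_zero, TensorProduct.tmul_zero]
          map_add' := fun a b => by rw [map_add, TensorProduct.tmul_add] }
      map_zero' := AddMonoidHom.ext fun a => by
        show ((0 : S) ^ p) ⊗ₜ[k] _ = 0
        rw [zero_pow (Fact.out : p.Prime).ne_zero, TensorProduct.zero_tmul]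
      map_add' := fun s t => AddMonoidHom.ext fun a => by
        show ((s + t) ^ p) ⊗ₜ[k] _ = _ + _
        rw [add_pow_of_algebra p k, TensorProduct.add_tmul]
        rfl }
    fun c s a => by
      show ((c • s) ^ p) ⊗ₜ[k] (FrobAlg.toTwist p k).symm a =
        (s ^ p) ⊗ₜ[k] (FrobAlg.toTwist p k).symm (c • a)
      have hc : (FrobAlg.toTwist p k).symm (c • a) = c ^ p • (FrobAlg.toTwist p k).symm a := by
        rw [Algebra.smul_def, map_mul, FrobAlg.algebraMap_twist, RingEquiv.symm_apply_apply]
        rfl
      rw [hc, smul_pow, TensorProduct.tmul_smul, TensorProduct.smul_tmul']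

theorem frobMap_tmul (S : Type u) [CommSemiring S] [Algebra k S] (s : S) (a : FrobAlg.Twist p k) :
    frobMap p k S (s ⊗ₜ[k] a) = (s ^ p) ⊗ₜ[k] (FrobAlg.toTwist p k).symm a := rfl

theorem frobMap_mul (S : Type u) [CommSemiring S] [Algebra k S] (x y : S ⊗[k] FrobAlg.Twist p k) :
    frobMap p k S (x * y) = frobMap p k S x * frobMap p k S y := by
  induction x using TensorProduct.induction_on with
  | zero => simp
  | add a b ha hb => rw [add_mul, map_add, map_add, ha, hb, add_mul]
  | tmul s a =>
    induction y using TensorProduct.induction_on with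
    | zero => simp
    | add c d hc hd => rw [mul_add, map_add, map_add, hc, hd, mul_add]
    | tmul t b =>
      rw [Algebra.TensorProduct.tmul_mul_tmul, frobMap_tmul, frobMap_tmul, frobMap_tmul,
        Algebra.TensorProduct.tmul_mul_tmul, mul_pow, map_mul]

noncomputable def frobLaw : FrobAlg.Twist p k →ₚₗ[k] k where
  toFun' S _ _ := frobMap p k S
  isCompat' φ := by
    funext x
    simp only [Function.comp_apply]
    induction x using TensorProduct.induction_on with
    | zero => simp
    | add a b ha hb => rw [map_add, map_add, map_add, map_add, ha, hb]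
    | tmul s a =>
      rw [frobMap_tmul, LinearMap.rTensor_tmul, LinearMap.rTensor_tmul, frobMap_tmul]
      simp [map_pow]

noncomputable def frobMulLaw : PolLaw.MulLaw k (FrobAlg.Twist p k) k p where
  law := frobLaw p k
  homog S _ _ s x := by
    show frobMap p k S (s • x) = s ^ p • frobMap p k S x
    induction x using TensorProduct.induction_on with
    | zero => simp
    | add a b ha hb => rw [smul_add, map_add, map_add, ha, hb, smul_add]
    | tmul t a =>
      rw [TensorProduct.smul_tmul', frobMap_tmul, frobMap_tmul, TensorProduct.smul_tmul',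
        smul_eq_mul, smul_eq_mul, mul_pow]
  mult S _ _ := by
    refine ⟨?_, frobMap_mul p k S⟩
    show frobMap p k S ((1 : S) ⊗ₜ[k] (1 : FrobAlg.Twist p k)) = _
    rw [frobMap_tmul, one_pow, map_one]
    rfl

theorem ker_eq_bot {K : Type u} [Field K] [CharP K p] (F : FrobAlg.Twist p K →ₚₗ[K] K)
    (hF : ∀ (S : Type u) [CommSemiring S] [Algebra K S] (s : S) (a : FrobAlg.Twist p K),
        F.toFun' S (s ⊗ₜ[K] a) = (s ^ p) ⊗ₜ[K] (FrobAlg.toTwist p K).symm a) :
    PolLaw.ker F = ⊥ := by
  rw [Submodule.eq_bot_iff]
  intro b hb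
  by_contra hb0
  have h0 : (FrobAlg.toTwist p K).symm b ≠ 0 := by simpa using hb0
  have h1 : (1 : FrobAlg.Twist p K) ∈ PolLaw.ker F := by
    have := Ideal.mul_mem_left (PolLaw.ker F) (FrobAlg.toTwist p K ((FrobAlg.toTwist p K).symm b)⁻¹) hb
    rwa [← (FrobAlg.toTwist p K).apply_symm_apply b, ← map_mul, RingEquiv.symm_apply_apply,
      inv_mul_cancel₀ h0, map_one] at this
  have h := h1 K ((0 : K) ⊗ₜ[K] (0 : FrobAlg.Twist p K)) ((1 : K) ⊗ₜ[K] (1 : FrobAlg.Twist p K))
  rw [TensorProduct.zero_tmul, zero_add, Algebra.TensorProduct.tmul_mul_tmul, mul_one, mul_one,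
    hF, ← TensorProduct.zero_tmul K (0 : FrobAlg.Twist p K), hF] at h
  have := congrArg (TensorProduct.lid K K) h
  simp only [TensorProduct.lid_tmul, map_one, one_pow, smul_eq_mul, mul_one, map_zero, mul_zero]
    at this
  exact one_ne_zero this

theorem not_finite_twist :
    ¬ Module.Finite (FractionRing (MvPolynomial ℕ (ZMod p)))
      (FrobAlg.Twist p (FractionRing (MvPolynomial ℕ (ZMod p)))) := by
  intro h
  let P := MvPolynomial ℕ (ZMod p)
  let K := FractionRing P
  let v : ℕ → FrobAlg.Twist p K := fun i =>
    FrobAlg.toTwist p K (algebraMap P K (MvPolynomial.X i))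
  have hli : LinearIndependent K v := by
    rw [linearIndependent_iff']
    intro s c hc j hj
    obtain ⟨⟨d, hd⟩, hint⟩ := IsLocalization.exist_integer_multiples (nonZeroDivisors P) s c
    choose! a ha using hint
    have ha' : ∀ i ∈ s, algebraMap P K (a i) = algebraMap P K d * c i := fun i hi => by
      rw [ha i hi, Algebra.smul_def]
    have hsum : ∑ i ∈ s, a i ^ p * MvPolynomial.X i = 0 := by
      apply IsFractionRing.injective P K
      rw [map_sum, map_zero]
      have := congrArg (fun z => algebraMap P K d ^ p * (FrobAlg.toTwist p K).symm z) hc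
      simp only [map_sum, map_zero, mul_zero, Finset.mul_sum] at this
      refine Eq.trans (Finset.sum_congr rfl fun i hi => ?_) this
      rw [Algebra.smul_def, map_mul (FrobAlg.toTwist p K).symm, FrobAlg.algebraMap_twist,
        RingEquiv.symm_apply_apply, RingEquiv.symm_apply_apply, map_mul, map_pow, ha' i hi,
        mul_pow, mul_assoc]
    have hD := congrArg (MvPolynomial.pderiv j) hsum
    rw [map_sum, map_zero, Finset.sum_eq_single j (fun i _ hij => ?_) (fun hn => absurd hj hn)] at hD
    · have : a j = 0 := by
        simp [Derivation.leibniz_pow, CharP.cast_eq_zero] at hD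
        exact hD.1
      have h2 := ha' j hj
      rw [this, map_zero, zero_eq_mul] at h2
      exact h2.resolve_left fun h0 => nonZeroDivisors.ne_zero hd (IsFractionRing.injective P K (by
        rw [h0, map_zero]))
    · rw [Derivation.leibniz, MvPolynomial.pderiv_X_of_ne hij, Derivation.leibniz_pow]
      simp [CharP.cast_eq_zero]
  exact not_finite_iff_infinite.mpr (inferInstance : Infinite ℕ)
    (LinearIndependent.finite hli)

end Groth.Agent.Fam20
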