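import Groth.Agent.Quot84.Props
import Mathlib.RingTheory.Invariant.Basic
import Mathlib.AlgebraicGeometry.ProjectiveSpectrum.Basic

/-!
Quotients of `Proj` by finite groups of graded automorphisms.
-/

set_option autoImplicit false
universe u

open CategoryTheory AlgebraicGeometry TopologicalSpace Opposite HomogeneousLocalization Graded

namespace Groth.Agent.Fam20

section Local

variable {X Y : Scheme.{u}} {G : Type u} [Group G] [Finite G] {ρ : G →* Aut X} {p : X ⟶ Y}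

omit [Finite G] in
/-- The quotient conditions on an affine chart, read on the coordinate rings. -/
theorem quot_cond_of_chart (hinv : ∀ g : G, (ρ g).hom ≫ p = p) {A B : CommRingCat.{u}}
    (jX : Spec A ⟶ X) (jY : Spec B ⟶ Y) [IsOpenImmersion jX] [IsOpenImmersion jY] (φ : B ⟶ A)
    (hsq : jX ≫ p = Spec.map φ ≫ jY) (hpre : p ⁻¹ᵁ jY.opensRange = jX.opensRange)
    (τ : G → (A ⟶ A)) (hτ : ∀ g, jX ≫ (ρ g).hom = Spec.map (τ g) ≫ jX)
    (hinj : Function.Injective φ.hom)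
    (hfix : ∀ a, (∀ g, (τ g).hom a = a) → a ∈ Set.range φ.hom) :
    Function.Injective (p.app jY.opensRange).hom ∧
      ∀ s : Γ(X, p ⁻¹ᵁ jY.opensRange),
        (∀ g : G, (Quot84.pull p (ρ g).hom (hinv g) jY.opensRange).hom s = s) →
          s ∈ Set.range (p.app jY.opensRange).hom := by
  let U := jY.opensRange
  let V := p ⁻¹ᵁ U
  have hXV : (⊤ : (Spec A).Opens) ≤ jX ⁻¹ᵁ V := fun t _ => hpre.ge ⟨t, rfl⟩
  have hYU : (⊤ : (Spec B).Opens) ≤ jY ⁻¹ᵁ U := fun t _ => ⟨t, rfl⟩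
  have hX : IsIso (jX.appLE V ⊤ hXV) := by
    have := jX.isIso_app V hpre.le
    have heq : jX ⁻¹ᵁ V = ⊤ := top_unique hXV
    rw [Scheme.Hom.appLE, show (homOfLE hXV).op = eqToHom (congrArg op heq) from Subsingleton.elim _ _]
    infer_instance
  have hY : IsIso (jY.appLE U ⊤ hYU) := by
    have := jY.isIso_app U le_rfl
    have heq : jY ⁻¹ᵁ U = ⊤ := top_unique hYU
    rw [Scheme.Hom.appLE, show (homOfLE hYU).op = eqToHom (congrArg op heq) from Subsingleton.elim _ _]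
    infer_instance
  let eX : Γ(X, V) ⟶ A := jX.appLE V ⊤ hXV ≫ (Scheme.ΓSpecIso A).hom
  let eY : Γ(Y, U) ⟶ B := jY.appLE U ⊤ hYU ≫ (Scheme.ΓSpecIso B).hom
  have beX : Function.Bijective eX.hom := ConcreteCategory.bijective_of_isIso eX
  have beY : Function.Bijective eY.hom := ConcreteCategory.bijective_of_isIso eY
  have key : ∀ (a c : Spec A ⟶ Y) (_ : a = c) (ea : ⊤ ≤ a ⁻¹ᵁ U) (ec : ⊤ ≤ c ⁻¹ᵁ U),
      a.appLE U ⊤ ea = c.appLE U ⊤ ec := by
    rintro a _ rfl _ _; rfl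
  have key' : ∀ (a c : Spec A ⟶ X) (_ : a = c) (ea : ⊤ ≤ a ⁻¹ᵁ V) (ec : ⊤ ≤ c ⁻¹ᵁ V),
      a.appLE V ⊤ ea = c.appLE V ⊤ ec := by
    rintro a _ rfl _ _; rfl
  have hφ : p.app U ≫ eX = eY ≫ φ := by
    simp only [eX, eY, p.app_eq_appLE, Category.assoc]
    rw [Scheme.Hom.appLE_comp_appLE_assoc, ← Scheme.ΓSpecIso_naturality,
      key _ _ hsq _ (fun t _ => ⟨(Spec.map φ) t, rfl⟩),
      ← Category.assoc (jY.appLE U ⊤ hYU), Scheme.Hom.appTop,
      show (Spec.map φ).app ⊤ = (Spec.map φ).appLE ⊤ ⊤ le_rfl from (Spec.map φ).app_eq_appLE]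
    exact congrArg (· ≫ (Scheme.ΓSpecIso A).hom)
      (Scheme.Hom.appLE_comp_appLE (Spec.map φ) jY U ⊤ ⊤ hYU le_rfl).symm
  have hτ' : ∀ g, Quot84.pull p (ρ g).hom (hinv g) U ≫ eX = eX ≫ τ g := by
    intro g
    simp only [eX, Quot84.pull, Category.assoc]
    rw [Scheme.Hom.appLE_comp_appLE_assoc, ← Scheme.ΓSpecIso_naturality,
      key' _ _ (hτ g) _ (fun t _ => hXV (x := (Spec.map (τ g)) t) trivial),
      ← Category.assoc (jX.appLE V ⊤ hXV), Scheme.Hom.appTop,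
      show (Spec.map (τ g)).app ⊤ = (Spec.map (τ g)).appLE ⊤ ⊤ le_rfl from
        (Spec.map (τ g)).app_eq_appLE]
    exact congrArg (· ≫ (Scheme.ΓSpecIso A).hom)
      (Scheme.Hom.appLE_comp_appLE (Spec.map (τ g)) jX V ⊤ ⊤ hXV le_rfl).symm
  refine ⟨fun s t hst => beY.1 (hinj ?_), fun s hs => ?_⟩
  · exact (congrArg (fun m => m.hom s) hφ).symm.trans
      ((congrArg eX.hom hst).trans (congrArg (fun m => m.hom t) hφ))
  · obtain ⟨b, hb⟩ := hfix (eX.hom s) fun g => by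
      rw [← CommRingCat.comp_apply, ← hτ' g, CommRingCat.comp_apply, hs g]
    obtain ⟨t, rfl⟩ := beY.2 b
    refine ⟨t, beX.1 ?_⟩
    rw [← CommRingCat.comp_apply, hφ, CommRingCat.comp_apply, hb]

end Local

open Polynomial in
theorem coeff_prod_X_sub_C_mem {R A : Type*} [CommRing R] [CommRing A] [Algebra R A]
    (𝒜 : ℕ → Submodule R A) [GradedAlgebra 𝒜] {κ : Type*} (a : κ → A) (s : Finset κ)
    (ha : ∀ i ∈ s, a i ∈ 𝒜 1) (j : ℕ) :
    (∏ i ∈ s, (X - C (a i))).coeff j ∈ 𝒜 (s.card - j) := by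
  classical
  induction s using Finset.induction_on generalizing j with
  | empty =>
    rw [Finset.prod_empty, coeff_one]
    split_ifs with h
    · subst h; exact SetLike.one_mem_graded 𝒜
    · exact zero_mem _
  | insert i s hi ih =>
    have ih' := ih fun k hk => ha k (Finset.mem_insert_of_mem hk)
    rw [Finset.prod_insert hi, Finset.card_insert_of_notMem hi, sub_mul, coeff_sub, coeff_C_mul]
    refine sub_mem ?_ ?_
    · cases j with
      | zero => rw [mul_coeff_zero, coeff_X_zero, zero_mul]; exact zero_mem _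
      | succ j => rw [coeff_X_mul, Nat.add_sub_add_right]; exact ih' j
    · by_cases hj : j ≤ s.card
      · rw [show s.card + 1 - j = 1 + (s.card - j) by omega]
        exact SetLike.mul_mem_graded (ha i (Finset.mem_insert_self i s)) (ih' j)
      · have hd : (∏ k ∈ s, (X - C (a k))).natDegree ≤ s.card :=
          (natDegree_prod_le _ _).trans
            ((Finset.sum_le_card_nsmul _ _ 1 fun k _ => natDegree_X_sub_C_le _).trans (by simp))
        rw [coeff_eq_zero_of_natDegree_lt (lt_of_le_of_lt hd (not_le.1 hj)), mul_zero]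
        exact zero_mem _

section Proj

variable {R A : Type u} [CommRing R] [CommRing A] [Algebra R A] (𝒜 : ℕ → Submodule R A)
  [GradedAlgebra 𝒜]

theorem exists_deg_one_notMem (hgen : Algebra.adjoin R (𝒜 1 : Set A) = ⊤) (x : Proj 𝒜) :
    ∃ f ∈ 𝒜 1, f ∉ x.asHomogeneousIdeal := by
  by_contra! H
  obtain ⟨n, z, hn, hz, hzx⟩ : ∃ n z, 0 < n ∧ z ∈ 𝒜 n ∧ z ∉ x.asHomogeneousIdeal := by
    by_contra! h'
    refine x.not_irrelevant_le ?_
    rw [HomogeneousIdeal.irrelevant_le]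
    exact fun n hn z hz => h' n z hn hz
  have hle : ∀ y : A, GradedRing.proj 𝒜 n y ∈ x.asHomogeneousIdeal := by
    intro y
    have hy : y ∈ Subalgebra.toSubmodule (Algebra.adjoin R (𝒜 1 : Set A)) := by rw [hgen]; trivial
    rw [Algebra.adjoin_eq_span] at hy
    induction hy using Submodule.span_induction with
    | mem w hw =>
      obtain ⟨k, hk, hkx⟩ : ∃ k, w ∈ 𝒜 k ∧ (k ≠ 0 → w ∈ x.asHomogeneousIdeal) := by
        induction hw using Submonoid.closure_induction with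
        | mem w hw => exact ⟨1, hw, fun _ => H w hw⟩
        | one => exact ⟨0, SetLike.one_mem_graded 𝒜, fun h => absurd rfl h⟩
        | mul v w _ _ hv hw =>
          obtain ⟨k, hk, hkx⟩ := hv
          obtain ⟨l, hl, hlx⟩ := hw
          refine ⟨k + l, SetLike.mul_mem_graded hk hl, fun hkl => ?_⟩
          rcases Nat.eq_zero_or_pos k with rfl | hk0
          · exact Ideal.mul_mem_left _ _ (hlx (by omega))
          · exact Ideal.mul_mem_right _ _ (hkx hk0.ne')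
      rw [GradedRing.proj_apply]
      rcases eq_or_ne k n with rfl | hne
      · rw [DirectSum.decompose_of_mem_same 𝒜 hk]
        exact hkx hn.ne'
      · rw [DirectSum.decompose_of_mem_ne 𝒜 hk hne]
        exact zero_mem _
    | zero => rw [map_zero]; exact zero_mem _
    | add v w _ _ hv hw => rw [map_add]; exact add_mem hv hw
    | smul r v _ hv =>
      rw [GradedRing.proj_apply] at hv ⊢
      rw [DirectSum.decompose_smul, DirectSum.smul_apply, Submodule.coe_smul, Algebra.smul_def]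
      exact Ideal.mul_mem_left _ _ hv
  refine hzx ?_
  have := hle z
  rwa [GradedRing.proj_apply, DirectSum.decompose_of_mem_same 𝒜 hz] at this

theorem map_val_Away {B : Type u} [CommRing B] [Algebra R B] {ℬ : ℕ → Submodule R B} [GradedAlgebra ℬ]
    {d : ℕ} (g : 𝒜 →+*ᵍ ℬ) (f : A) (hf : f ∈ 𝒜 d) :
    (algebraMap (Away ℬ (g f)) (Localization.Away (g f))).comp (Away.map g f) =
      (Localization.awayMap g.toRingHom f).comp (algebraMap (Away 𝒜 f) (Localization.Away f)) := by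
  refine RingHom.ext fun z => ?_
  obtain ⟨k, a, ha, rfl⟩ := Away.mk_surjective 𝒜 hf z
  simp only [RingHom.comp_apply, HomogeneousLocalization.algebraMap_apply, Away.map_mk, Away.val_mk,
    Localization.awayMap, IsLocalization.Away.map, Localization.mk_eq_mk', IsLocalization.map_mk']
  exact IsLocalization.mk'_eq_of_eq' (by simp)

theorem away_mk_eq_zero {f : A} {d : ℕ} (hf : f ∈ 𝒜 d) (k : ℕ) (a : A) (ha : a ∈ 𝒜 (k • d)) :
    Away.mk 𝒜 hf k a ha = 0 ↔ ∃ m, f ^ m * a = 0 := by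
  rw [← HomogeneousLocalization.val_injective _ |>.eq_iff, Away.val_mk, val_zero,
    Localization.mk_eq_mk', IsLocalization.mk'_eq_zero_iff]
  exact ⟨fun ⟨⟨_, m, rfl⟩, hm⟩ => ⟨m, hm⟩, fun ⟨m, hm⟩ => ⟨⟨_, m, rfl⟩, hm⟩⟩

theorem away_mk_eq_iff {f : A} {d : ℕ} (hf : f ∈ 𝒜 d) (k : ℕ) (a b : A) (ha : a ∈ 𝒜 (k • d))
    (hb : b ∈ 𝒜 (k • d)) :
    Away.mk 𝒜 hf k a ha = Away.mk 𝒜 hf k b hb ↔ ∃ m, f ^ m * a = f ^ m * b := by
  rw [← HomogeneousLocalization.val_injective _ |>.eq_iff, Away.val_mk, Away.val_mk,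
    Localization.mk_eq_mk', IsLocalization.mk'_eq_iff_eq,
    IsLocalization.eq_iff_exists (Submonoid.powers f)]
  constructor
  · rintro ⟨⟨_, m, rfl⟩, hm⟩
    refine ⟨m + k, ?_⟩
    simp only [pow_add, mul_assoc] at hm ⊢
    exact hm
  · rintro ⟨m, hm⟩
    refine ⟨⟨_, m, rfl⟩, ?_⟩
    show f ^ m * (f ^ k * a) = f ^ m * (f ^ k * b)
    rw [mul_left_comm, hm, mul_left_comm]

variable {G : Type u} [Group G] [Finite G] [MulSemiringAction G A]
  {C : Type u} [CommRing C] [Algebra R C] (𝒞 : ℕ → Submodule R C) [GradedAlgebra 𝒞]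

/-- `Proj` of the invariants is the quotient of `Proj`. -/
theorem isQuot_proj (hgen : Algebra.adjoin R (𝒜 1 : Set A) = ⊤)
    (hGdeg : ∀ (σ : G) (i : ℕ) (a : A), a ∈ 𝒜 i → σ • a ∈ 𝒜 i)
    (ι : C →ₐ[R] A) (hι : Function.Injective ι)
    (hιdeg : ∀ (i : ℕ) (a : A), a ∈ (𝒞 i).map ι.toLinearMap ↔ (a ∈ 𝒜 i ∧ ∀ σ : G, σ • a = a))
    (ρ : G →* Aut (Proj 𝒜))
    (hρ : ∀ (σ : G) (n : ℕ) (f : A) (hn : 0 < n) (hf : f ∈ 𝒜 n)
      (θ : CommRingCat.of (Away 𝒜 f) ⟶ CommRingCat.of (Away 𝒜 (σ • f))),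
      (algebraMap (Away 𝒜 (σ • f)) (Localization.Away (σ • f))).comp θ.hom =
        (Localization.awayMap (MulSemiringAction.toRingHom G A σ) f).comp
          (algebraMap (Away 𝒜 f) (Localization.Away f)) →
      Proj.awayι 𝒜 (σ • f) (hGdeg σ n f hf) hn ≫ (ρ σ).inv = Spec.map θ ≫ Proj.awayι 𝒜 f hf hn)
    (π : Proj 𝒜 ⟶ Proj 𝒞)
    (hπ : ∀ (n : ℕ) (c : C) (hn : 0 < n) (hc : c ∈ 𝒞 n)
      (θ : CommRingCat.of (Away 𝒞 c) ⟶ CommRingCat.of (Away 𝒜 (ι c))),
      (algebraMap (Away 𝒜 (ι c)) (Localization.Away (ι c))).comp θ.hom =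
        (Localization.awayMap ι.toRingHom c).comp
          (algebraMap (Away 𝒞 c) (Localization.Away c)) →
      Proj.awayι 𝒜 (ι c) ((hιdeg n (ι c)).mp (Submodule.mem_map_of_mem hc)).1 hn ≫ π =
        Spec.map θ ≫ Proj.awayι 𝒞 c hc hn) :
    SGA1.IsQuot ρ π := by
  classical
  let gι : 𝒞 →+*ᵍ 𝒜 :=
    ⟨ι.toRingHom, fun hc => ((hιdeg _ _).mp (Submodule.mem_map_of_mem hc)).1⟩
  let gσ : G → (𝒜 →+*ᵍ 𝒜) := fun σ =>
    ⟨MulSemiringAction.toRingHom G A σ, fun ha => hGdeg σ _ _ ha⟩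
  have hdeg : ∀ n c, c ∈ 𝒞 n → ι c ∈ 𝒜 n := fun n c hc => map_mem gι hc
  have hfixed : ∀ n c, c ∈ 𝒞 n → ∀ σ : G, σ • ι c = ι c := fun n c hc =>
    ((hιdeg n _).mp (Submodule.mem_map_of_mem hc)).2
  -- invariant elements not vanishing at a given point
  have hinvpt : ∀ x : Proj 𝒜, ∃ (n : ℕ) (c : C) (_ : c ∈ 𝒞 n), 0 < n ∧ x ∈ Proj.basicOpen 𝒜 (ι c) := by
    intro x
    obtain ⟨f, hf, hfx⟩ := exists_deg_one_notMem 𝒜 hgen x
    cases nonempty_fintype G
    by_contra! H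
    let P := MulSemiringAction.charpoly G f
    let N := (Finset.univ : Finset G).card
    have hcoeff : ∀ i < N, P.coeff i ∈ x.asHomogeneousIdeal := by
      intro i hi
      have h1 : P.coeff i ∈ 𝒜 (N - i) := by
        rw [show P = _ from MulSemiringAction.charpoly_eq G f]
        exact coeff_prod_X_sub_C_mem 𝒜 _ _ (fun σ _ => hGdeg σ 1 f hf) i
      obtain ⟨c, hc, hcP⟩ := (hιdeg (N - i) (P.coeff i)).mpr
        ⟨h1, fun σ => MulSemiringAction.smul_coeff_charpoly f i σ⟩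
      by_contra hix
      refine H (N - i) c hc (Nat.sub_pos_of_lt hi) ?_
      rw [Proj.mem_basicOpen]
      exact fun h => hix (hcP ▸ h)
    have hdegP : P.natDegree ≤ N := by
      rw [show P = _ from MulSemiringAction.charpoly_eq G f]
      exact (Polynomial.natDegree_prod_le _ _).trans
        ((Finset.sum_le_card_nsmul _ _ 1 fun k _ => Polynomial.natDegree_X_sub_C_le _).trans
          (by simp [N]))
    have h0 := MulSemiringAction.eval_charpoly G f
    have hlead : P.coeff N = 1 := by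
      rcases subsingleton_or_nontrivial A with hA | hA
      · exact Subsingleton.elim _ _
      · have : P.natDegree = N := by
          rw [show P = _ from MulSemiringAction.charpoly_eq G f,
            Polynomial.natDegree_prod_of_monic _ _ fun σ _ => Polynomial.monic_X_sub_C _]
          simp [N]
        rw [← this]
        exact MulSemiringAction.monic_charpoly G f
    rw [Polynomial.eval_eq_sum_range' (Nat.lt_succ_of_le hdegP), Finset.sum_range_succ,
      show (MulSemiringAction.charpoly G f).coeff N = 1 from hlead, one_mul] at h0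
    have hfN : f ^ N ∈ x.asHomogeneousIdeal := by
      rw [eq_neg_of_add_eq_zero_right h0]
      exact x.asHomogeneousIdeal.toIdeal.neg_mem (Ideal.sum_mem _ fun i hi =>
        Ideal.mul_mem_right _ _ (hcoeff i (Finset.mem_range.1 hi)))
    exact hfx (x.isPrime.mem_of_pow_mem N hfN)
  -- the charts
  let φ : ∀ c : C, CommRingCat.of (Away 𝒞 c) ⟶ CommRingCat.of (Away 𝒜 (ι c)) := fun c =>
    CommRingCat.ofHom (Away.map gι c)
  have hsq : ∀ (n : ℕ) (c : C) (hn : 0 < n) (hc : c ∈ 𝒞 n),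
      Proj.awayι 𝒜 (ι c) (hdeg n c hc) hn ≫ π = Spec.map (φ c) ≫ Proj.awayι 𝒞 c hc hn :=
    fun n c hn hc => hπ n c hn hc (φ c) (map_val_Away 𝒞 gι c hc)
  have hpre : ∀ (n : ℕ) (c : C) (hn : 0 < n) (hc : c ∈ 𝒞 n),
      π ⁻¹ᵁ Proj.basicOpen 𝒞 c = Proj.basicOpen 𝒜 (ι c) := by
    intro n c hn hc
    refine Opens.ext (Set.ext fun x => ⟨fun hx => ?_, fun hx => ?_⟩)
    · obtain ⟨m, c', hc', hm, hxc'⟩ := hinvpt x
      obtain ⟨P, rfl⟩ : x ∈ (Proj.awayι 𝒜 (ι c') (hdeg m c' hc') hm).opensRange := by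
        rwa [Proj.opensRange_awayι]
      have h1 : π (Proj.awayι 𝒜 (ι c') (hdeg m c' hc') hm P) =
          Proj.awayι 𝒞 c' hc' hm (Spec.map (φ c') P) :=
        congrArg (fun k : _ ⟶ Proj 𝒞 => k P) (hsq m c' hm hc')
      have h2 : Spec.map (φ c') P ∈ Proj.awayι 𝒞 c' hc' hm ⁻¹ᵁ Proj.basicOpen 𝒞 c := by
        show Proj.awayι 𝒞 c' hc' hm (Spec.map (φ c') P) ∈ Proj.basicOpen 𝒞 c
        rw [← h1]
        exact hx
      rw [Proj.awayι_preimage_basicOpen 𝒞 hc' hm hc hn] at h2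
      have h3 : P ∈ Proj.awayι 𝒜 (ι c') (hdeg m c' hc') hm ⁻¹ᵁ Proj.basicOpen 𝒜 (ι c) := by
        rw [Proj.awayι_preimage_basicOpen 𝒜 (hdeg m c' hc') hm (hdeg n c hc) hn]
        have h4 : Away.map gι c' (Away.isLocalizationElem hc' hc) =
            Away.isLocalizationElem (hdeg m c' hc') (hdeg n c hc) := by
          refine (Away.map_mk _ _ _ _ _ _).trans ?_
          simp only [Away.isLocalizationElem]
          congr 1
          exact map_pow gι.toRingHom _ _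
        show Away.isLocalizationElem (hdeg m c' hc') (hdeg n c hc) ∉ P.asIdeal
        rw [← h4]
        exact h2
      exact h3
    · obtain ⟨P, rfl⟩ : x ∈ (Proj.awayι 𝒜 (ι c) (hdeg n c hc) hn).opensRange := by
        rwa [Proj.opensRange_awayι]
      show π (Proj.awayι 𝒜 (ι c) (hdeg n c hc) hn P) ∈ Proj.basicOpen 𝒞 c
      rw [show π (Proj.awayι 𝒜 (ι c) (hdeg n c hc) hn P) = Proj.awayι 𝒞 c hc hn (Spec.map (φ c) P) from
          congrArg (fun k : _ ⟶ Proj 𝒞 => k P) (hsq n c hn hc),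
        ← Proj.opensRange_awayι 𝒞 c hc hn]
      exact ⟨_, rfl⟩
  -- the action on the charts
  have hact : ∀ (σ : G) (n : ℕ) (f f' : A) (hn : 0 < n) (hf : f ∈ 𝒜 n) (hf' : f' ∈ 𝒜 n)
      (_ : σ • f = f'), ∃ θ : CommRingCat.of (Away 𝒜 f) ⟶ CommRingCat.of (Away 𝒜 f'),
      (∀ k a ha, θ.hom (Away.mk 𝒜 hf k a ha) = Away.mk 𝒜 hf' k (σ • a) (hGdeg σ _ a ha)) ∧
      Proj.awayι 𝒜 f' hf' hn ≫ (ρ σ).inv = Spec.map θ ≫ Proj.awayι 𝒜 f hf hn := by
    intro σ n f f' hn hf hf' e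
    subst e
    exact ⟨CommRingCat.ofHom (Away.map (gσ σ) f), fun k a ha => Away.map_mk _ _ _ _ _ _,
      hρ σ n f hn hf _ (map_val_Away 𝒜 (gσ σ) f hf)⟩
  let I := Σ n : {n : ℕ // 0 < n}, {c : C // c ∈ 𝒞 n.1}
  let jX := fun i : I => Proj.awayι 𝒜 (ι i.2.1) (hdeg i.1.1 i.2.1 i.2.2) i.1.2
  let jY := fun i : I => Proj.awayι 𝒞 i.2.1 i.2.2 i.1.2
  have hpre' : ∀ i : I, π ⁻¹ᵁ (jY i).opensRange = (jX i).opensRange := fun i => by
    simp only [jX, jY, Proj.opensRange_awayι]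
    exact hpre i.1.1 i.2.1 i.1.2 i.2.2
  have hinv : ∀ g : G, (ρ g).hom ≫ π = π := by
    intro g
    refine Scheme.Cover.hom_ext (Scheme.openCoverOfIsOpenCover (Proj 𝒜)
      (fun i : I => (jX i).opensRange) ?_) _ _ fun i => ?_
    · refine eq_top_iff.2 fun x _ => ?_
      obtain ⟨n, c, hc, hn, hx⟩ := hinvpt x
      refine Opens.mem_iSup.2 ⟨⟨⟨n, hn⟩, c, hc⟩, ?_⟩
      simp only [jX, Proj.opensRange_awayι]
      exact hx
    · obtain ⟨θ, hθ, hθ'⟩ := hact g⁻¹ i.1.1 (ι i.2.1) (ι i.2.1) i.1.2 (hdeg _ _ i.2.2)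
        (hdeg _ _ i.2.2) (hfixed _ _ i.2.2 _)
      have hgi : (ρ g⁻¹).inv = (ρ g).hom := by rw [map_inv]; rfl
      rw [hgi] at hθ'
      show (jX i).opensRange.ι ≫ (ρ g).hom ≫ π = (jX i).opensRange.ι ≫ π
      rw [← cancel_epi (jX i).isoOpensRange.hom]
      simp only [← Category.assoc, Scheme.Hom.isoOpensRange_hom_ι, jX]
      rw [hθ', Category.assoc, hsq _ _ i.1.2 i.2.2, ← Category.assoc, ← Spec.map_comp]
      refine congrArg (Spec.map · ≫ _) (CommRingCat.hom_ext (RingHom.ext fun z => ?_))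
      obtain ⟨k, a, ha, rfl⟩ := Away.mk_surjective 𝒞 i.2.2 z
      show θ.hom (Away.map gι i.2.1 (Away.mk 𝒞 i.2.2 k a ha)) = Away.map gι i.2.1 (Away.mk 𝒞 i.2.2 k a ha)
      rw [Away.map_mk]
      refine (hθ k _ _).trans ?_
      congr 1
      exact hfixed _ a ha g⁻¹
  have hcovY : ∀ y : Proj 𝒞, ∃ i : I, y ∈ (jY i).opensRange := by
    intro y
    obtain ⟨n, z, hn, hz, hzy⟩ : ∃ n z, 0 < n ∧ z ∈ 𝒞 n ∧ z ∉ y.asHomogeneousIdeal := by
      by_contra! h'
      refine y.not_irrelevant_le ?_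
      rw [HomogeneousIdeal.irrelevant_le]
      exact fun n hn z hz => h' n z hn hz
    refine ⟨⟨⟨n, hn⟩, z, hz⟩, ?_⟩
    simp only [jY, Proj.opensRange_awayι]
    exact hzy
  have haff : IsAffineHom π := by
    refine isAffineHom_of_forall_exists_isAffineOpen (f := π) fun y => ?_
    obtain ⟨i, hi⟩ := hcovY y
    exact ⟨(jY i).opensRange, hi, isAffineOpen_opensRange _, by
      rw [hpre']; exact isAffineOpen_opensRange _⟩
  have hcond : ∀ i : I, Function.Injective (π.app (jY i).opensRange).hom ∧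
      ∀ s : Γ(Proj 𝒜, π ⁻¹ᵁ (jY i).opensRange),
        (∀ g : G, (Quot84.pull π (ρ g).hom (hinv g) (jY i).opensRange).hom s = s) →
          s ∈ Set.range (π.app (jY i).opensRange).hom := by
    rintro ⟨⟨n, hn⟩, c, hc⟩
    have hτ : ∀ g : G, ∃ θ : CommRingCat.of (Away 𝒜 (ι c)) ⟶ CommRingCat.of (Away 𝒜 (ι c)),
        (∀ k a ha, θ.hom (Away.mk 𝒜 (hdeg n c hc) k a ha) =
          Away.mk 𝒜 (hdeg n c hc) k (g⁻¹ • a) (hGdeg g⁻¹ _ a ha)) ∧
        Proj.awayι 𝒜 (ι c) (hdeg n c hc) hn ≫ (ρ g).hom =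
          Spec.map θ ≫ Proj.awayι 𝒜 (ι c) (hdeg n c hc) hn := fun g => by
      have hgi : (ρ g⁻¹).inv = (ρ g).hom := by rw [map_inv]; rfl
      rw [← hgi]
      exact hact g⁻¹ n (ι c) (ι c) hn (hdeg n c hc) (hdeg n c hc) (hfixed n c hc _)
    choose τ hτ1 hτ2 using hτ
    refine quot_cond_of_chart hinv (jX ⟨⟨n, hn⟩, c, hc⟩) (jY ⟨⟨n, hn⟩, c, hc⟩) (φ c) (hsq n c hn hc)
      (hpre' _) τ hτ2 ?_ ?_
    · intro z z' hzz'
      rw [← sub_eq_zero]
      have h0 : Away.map gι c (z - z') = 0 := by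
        rw [map_sub, sub_eq_zero]; exact hzz'
      obtain ⟨k, a, ha, hz⟩ := Away.mk_surjective 𝒞 hc (z - z')
      rw [← hz] at h0 ⊢
      rw [Away.map_mk, away_mk_eq_zero] at h0
      obtain ⟨m, hm⟩ := h0
      rw [away_mk_eq_zero]
      refine ⟨m, hι ?_⟩
      rw [map_mul, map_pow, map_zero]
      exact hm
    · intro z hz
      obtain ⟨k, a, ha, rfl⟩ := Away.mk_surjective 𝒜 (hdeg n c hc) z
      have hm : ∀ g : G, ∃ m, (ι c) ^ m * (g⁻¹ • a) = (ι c) ^ m * a := fun g => by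
        rw [← away_mk_eq_iff 𝒜 (hdeg n c hc) k _ _ (hGdeg g⁻¹ _ a ha) ha, ← hτ1]
        exact hz g
      choose m hm using hm
      cases nonempty_fintype G
      let M := Finset.univ.sup m
      have hM : ∀ σ : G, σ • ((ι c) ^ M * a) = (ι c) ^ M * a := fun σ => by
        have h1 := hm σ⁻¹
        rw [inv_inv] at h1
        obtain ⟨e, he⟩ : ∃ e, M = e + m σ⁻¹ :=
          ⟨M - m σ⁻¹, (Nat.sub_add_cancel (Finset.le_sup (f := m) (Finset.mem_univ σ⁻¹))).symm⟩
        rw [smul_mul', smul_pow', hfixed n c hc, he, pow_add, mul_assoc, h1, mul_assoc]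
      have hMa : (ι c) ^ M * a ∈ 𝒜 ((M + k) • n) := by
        rw [add_smul]
        exact SetLike.mul_mem_graded (SetLike.pow_mem_graded M (hdeg n c hc)) ha
      obtain ⟨b, hb, hba⟩ := (hιdeg _ _).mpr ⟨hMa, hM⟩
      refine ⟨Away.mk 𝒞 hc (M + k) b hb, ?_⟩
      show Away.map gι c _ = _
      rw [Away.map_mk]
      refine HomogeneousLocalization.val_injective _ ?_
      rw [Away.val_mk, Away.val_mk, Localization.mk_eq_mk',
        IsLocalization.mk'_eq_iff_eq]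
      congr 1
      show (ι c) ^ k * ι b = (ι c) ^ (M + k) * a
      rw [show ι b = _ from hba, pow_add]
      ring
  exact Quot84.isQuot_of_affine_cover π ρ haff hinv (fun i => (jY i).opensRange)
    (fun i => isAffineOpen_opensRange _) hcovY (fun i => (hcond i).1) fun i => (hcond i).2

end Proj

end Groth.Agent.Fam20
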