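import Mathlib
import Groth.Agent.Hens22.SmoothCut

/-! Etale quasi-sections of smooth algebras through points with separable residue field. -/

universe u

open TensorProduct KaehlerDifferential

namespace Groth.Agent.Fam20

/-- An etale quasi-section: a closed subscheme of a principal open which is etale over the base. -/
structure QS (R B : Type u) [CommRing R] [CommRing B] [Algebra R B] where
  Z : Type u
  [ring : CommRing Z]
  [algR : Algebra R Z]
  [algB : Algebra B Z]
  [tower : IsScalarTower R B Z]
  etale : Algebra.Etale R Z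
  h : B
  proj : Localization.Away h →ₐ[B] Z
  surj : Function.Surjective proj

attribute [instance] QS.ring QS.algR QS.algB QS.tower

variable {R B : Type u} [CommRing R] [CommRing B] [Algebra R B] (Q : Ideal B) [Q.IsPrime]

/-- If the residue field is unramified over the base, differentials of the prime span the fibre. -/
theorem span_tmul_D_eq_top [Algebra.FormallyUnramified R Q.ResidueField] :
    Submodule.span Q.ResidueField
      ((fun q => (1 : Q.ResidueField) ⊗ₜ[B] D R B q) '' (Q : Set B)) = ⊤ := by
  rw [eq_top_iff]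
  intro x _
  set S := Submodule.span Q.ResidueField
      ((fun q => (1 : Q.ResidueField) ⊗ₜ[B] D R B q) '' (Q : Set B)) with hS
  induction x using TensorProduct.induction_on with
  | zero => exact zero_mem _
  | add a b ha hb => exact add_mem (ha trivial) (hb trivial)
  | tmul a m =>
    rw [← mul_one a, ← smul_eq_mul, ← TensorProduct.smul_tmul']
    refine S.smul_mem a ?_
    obtain ⟨⟨s, hs⟩, hsm⟩ := (IsLocalizedModule.eq_zero_iff (nonZeroDivisors (B ⧸ Q))
      (KaehlerDifferential.map R R (B ⧸ Q) Q.ResidueField)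
      (m := KaehlerDifferential.mapBaseChange R B (B ⧸ Q) (1 ⊗ₜ m))).mp (Subsingleton.elim _ _)
    obtain ⟨s, rfl⟩ := Ideal.Quotient.mk_surjective s
    have h1 : KaehlerDifferential.mapBaseChange R B (B ⧸ Q) (1 ⊗ₜ (s • m)) = 0 := by
      rw [TensorProduct.tmul_smul, LinearMap.map_smul_of_tower]
      exact hsm
    obtain ⟨y, hy⟩ := (KaehlerDifferential.exact_kerCotangentToTensor_mapBaseChange R B (B ⧸ Q)
      Ideal.Quotient.mk_surjective _).mp h1
    obtain ⟨⟨q, hq⟩, rfl⟩ := Ideal.toCotangent_surjective _ y
    rw [kerCotangentToTensor_toCotangent] at hy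
    replace hy := congrArg
      (TensorProduct.map (IsScalarTower.toAlgHom B (B ⧸ Q) Q.ResidueField).toLinearMap
        LinearMap.id) hy
    simp only [TensorProduct.map_tmul, AlgHom.toLinearMap_apply, map_one, LinearMap.id_coe,
      id_eq] at hy
    have h2 : algebraMap B Q.ResidueField s • ((1 : Q.ResidueField) ⊗ₜ[B] m) ∈ S := by
      rw [algebraMap_smul, ← TensorProduct.tmul_smul, ← hy]
      exact Submodule.subset_span ⟨q, by simpa [Ideal.Quotient.eq_zero_iff_mem] using hq, rfl⟩
    have hne : algebraMap B Q.ResidueField s ≠ 0 := fun h => by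
      rw [Ideal.algebraMap_residueField_eq_zero] at h
      exact nonZeroDivisors.ne_zero hs (Ideal.Quotient.eq_zero_iff_mem.mpr h)
    exact (S.smul_mem_iff hne).mp h2

/-- Elements of the prime whose differentials form a frame near the prime. -/
theorem exists_frame [Algebra.Smooth R B] [Algebra.FormallyUnramified R Q.ResidueField] :
    ∃ (m : ℕ) (f : Fin m → B) (ρ : Ω[B⁄R] →ₗ[B] (Fin m → B)) (g : B),
      (∀ i, f i ∈ Q) ∧ (Groth.Agent.Hens22.dMat ρ f).det ∉ Q ∧ g ∉ Q ∧
      ∀ x : Ω[B⁄R], g • x ∈ Submodule.span B (Set.range fun i => D R B (f i)) := by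
  classical
  obtain ⟨b, hbsub, hbspan, hbli⟩ := exists_linearIndependent Q.ResidueField
    ((fun q => (1 : Q.ResidueField) ⊗ₜ[B] D R B q) '' (Q : Set B))
  rw [span_tmul_D_eq_top] at hbspan
  let bas : Module.Basis b Q.ResidueField (Q.ResidueField ⊗[B] Ω[B⁄R]) :=
    Module.Basis.mk hbli (by rw [Subtype.range_coe, hbspan])
  have : Finite b := Module.Finite.finite_basis bas
  obtain ⟨m, ⟨σ⟩⟩ := Finite.exists_equiv_fin b
  let w := bas.reindex σ
  have hw : ∀ i, ∃ q ∈ Q, (1 : Q.ResidueField) ⊗ₜ[B] D R B q = w i := fun i => by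
    obtain ⟨q, hq, h⟩ := hbsub (σ.symm i).2
    exact ⟨q, hq, by simp only [w, bas, Module.Basis.reindex_apply, Module.Basis.mk_apply]; exact h⟩
  choose f hf hfw using hw
  obtain ⟨N, r, hr⟩ := Module.Finite.exists_fin' B Ω[B⁄R]
  obtain ⟨s, hs⟩ := Module.projective_lifting_property r LinearMap.id hr
  let A : Fin m → Fin N → Q.ResidueField := fun j k =>
    w.repr ((1 : Q.ResidueField) ⊗ₜ[B] r (Pi.single k 1)) j
  have hA : ∀ i j, ∑ k, A j k * algebraMap B Q.ResidueField (s (D R B (f i)) k) =
      if i = j then 1 else 0 := by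
    intro i j
    have h1 : w i = ∑ k, algebraMap B Q.ResidueField (s (D R B (f i)) k) •
        ((1 : Q.ResidueField) ⊗ₜ[B] r (Pi.single k 1)) := by
      rw [← hfw i]
      conv_lhs => rw [← LinearMap.id_apply (R := B) (D R B (f i)), ← hs, LinearMap.comp_apply,
        pi_eq_sum_univ' (s (D R B (f i)))]
      rw [map_sum, TensorProduct.tmul_sum]
      simp only [map_smul, TensorProduct.tmul_smul, algebraMap_smul]
    have h2 := congrArg (fun v => w.repr v j) h1
    simp only [map_sum, map_smul, Finsupp.coe_finsetSum, Finset.sum_apply, Finsupp.coe_smul,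
      Pi.smul_apply, smul_eq_mul, Module.Basis.repr_self, Finsupp.single_apply] at h2
    rw [h2]
    exact Finset.sum_congr rfl fun k _ => mul_comm _ _
  obtain ⟨⟨c, hc⟩, hcA⟩ := IsLocalization.exist_integer_multiples_of_finite
    (nonZeroDivisors (B ⧸ Q)) (fun x : Fin m × Fin N => A x.1 x.2)
  choose z hz using hcA
  choose z' hz' using fun x => Ideal.Quotient.mk_surjective (z x)
  obtain ⟨c, rfl⟩ := Ideal.Quotient.mk_surjective c
  let ρ : Ω[B⁄R] →ₗ[B] (Fin m → B) := LinearMap.pi fun j =>
    ∑ k, z' (j, k) • ((LinearMap.proj k).comp s)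
  refine ⟨m, f, ρ, ?_⟩
  have hz'' : ∀ j k, algebraMap B Q.ResidueField (z' (j, k)) =
      algebraMap B Q.ResidueField c * A j k := fun j k => by
    rw [← Ideal.algebraMap_quotient_residueField_mk, hz', hz, Algebra.smul_def,
      Ideal.algebraMap_quotient_residueField_mk]
  have hdet : (Groth.Agent.Hens22.dMat ρ f).det ∉ Q := by
    rw [← Ideal.algebraMap_residueField_eq_zero, RingHom.map_det]
    have : (algebraMap B Q.ResidueField).mapMatrix (Groth.Agent.Hens22.dMat ρ f) =
        Matrix.diagonal fun _ : Fin m => algebraMap B Q.ResidueField c := by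
      ext i j
      simp only [RingHom.mapMatrix_apply, Matrix.map_apply, Groth.Agent.Hens22.dMat,
        Matrix.of_apply, ρ, LinearMap.pi_apply, LinearMap.coe_sum, Finset.sum_apply,
        LinearMap.smul_apply, LinearMap.comp_apply, LinearMap.proj_apply, smul_eq_mul, map_sum,
        map_mul, hz'', mul_assoc, ← Finset.mul_sum, hA, Matrix.diagonal_apply]
      split <;> simp
    rw [this, Matrix.det_diagonal, Finset.prod_const]
    refine pow_ne_zero _ fun h => ?_
    rw [Ideal.algebraMap_residueField_eq_zero] at h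
    exact nonZeroDivisors.ne_zero hc (Ideal.Quotient.eq_zero_iff_mem.mpr h)
  let N₀ := Submodule.span B (Set.range fun i => D R B (f i))
  have hns : (⟨Q, inferInstance⟩ : PrimeSpectrum B) ∉ Module.support B (Ω[B⁄R] ⧸ N₀) := by
    rw [Module.mem_support_iff_nontrivial_residueField_tensorProduct,
      not_nontrivial_iff_subsingleton]
    refine subsingleton_of_forall_eq 0 fun x => ?_
    obtain ⟨y, rfl⟩ := LinearMap.lTensor_surjective Q.ResidueField N₀.mkQ_surjective x
    rw [← w.sum_repr y, map_sum]
    refine Finset.sum_eq_zero fun i _ => ?_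
    rw [← hfw i, TensorProduct.smul_tmul', LinearMap.lTensor_tmul]
    rw [show N₀.mkQ (D R B (f i)) = 0 from
      (Submodule.Quotient.mk_eq_zero _).mpr (Submodule.subset_span ⟨i, rfl⟩), tmul_zero]
  rw [Module.mem_support_iff_of_finite] at hns
  obtain ⟨g, hg, hgQ⟩ := SetLike.not_le_iff_exists.mp hns
  refine ⟨g, hf, hdet, hgQ, fun x => ?_⟩
  have := Module.mem_annihilator.mp hg (N₀.mkQ x)
  rw [← map_smul] at this
  exact (Submodule.Quotient.mk_eq_zero _).mp this

/-- Quasi-sections pass through every point with unramified residue field. -/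
theorem exists_qs [Algebra.Smooth R B] [Algebra.FormallyUnramified R Q.ResidueField] :
    ∃ W : QS R B, Nonempty (W.Z →ₐ[B] Q.ResidueField) := by
  classical
  obtain ⟨m, f, ρ, g, hf, hdet, hg, hspan⟩ := exists_frame (R := R) Q
  let h := (Groth.Agent.Hens22.dMat ρ f).det * g
  have hh : h ∉ Q := fun hm => (Ideal.IsPrime.mem_or_mem ‹_› hm).elim hdet hg
  let P := Localization.Away h
  let v : Fin m → P := fun i => algebraMap B P (f i)
  let I := Ideal.span (Set.range v)
  have : Algebra.FormallyEtale B P := Algebra.FormallyEtale.of_isLocalization (Submonoid.powers h)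
  have : Algebra.Etale B P := Algebra.Etale.of_isLocalizationAway h
  have : Algebra.Smooth R P := Algebra.Smooth.comp R B P
  obtain ⟨ρ', hρ'⟩ := Groth.Agent.Hens22.exists_extend (Q := P) ρ
  have hu : IsUnit (algebraMap B P h) := IsLocalization.Away.algebraMap_isUnit h
  have hdM : Groth.Agent.Hens22.dMat ρ' v =
      (algebraMap B P).mapMatrix (Groth.Agent.Hens22.dMat ρ f) := by
    ext i j
    simp [Groth.Agent.Hens22.dMat, v, hρ']
  have hfs : Algebra.FormallySmooth R (P ⧸ I) :=
    Groth.Agent.Hens22.formallySmooth_quotient_of_cut v 1 IsIdempotentElem.one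
      (Matrix.one_mulVec _) ρ' (by
      rw [one_mul, mul_one, sub_self, add_zero, hdM, ← RingHom.map_det]
      exact isUnit_of_dvd_unit (map_dvd _ (Dvd.intro g rfl)) hu)
  have hker : ∀ x : Ω[B⁄R],
      KaehlerDifferential.map R R P (P ⧸ I) (KaehlerDifferential.map R R B P x) = 0 := by
    intro x
    have hz : ∀ y ∈ Submodule.span B (Set.range fun i => D R B (f i)),
        KaehlerDifferential.map R R P (P ⧸ I) (KaehlerDifferential.map R R B P y) = 0 := by
      intro y hy
      induction hy using Submodule.span_induction with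
      | mem y hy =>
        obtain ⟨i, rfl⟩ := hy
        rw [map_D, map_D]
        have hv : algebraMap P (P ⧸ I) (algebraMap B P (f i)) = 0 :=
          Ideal.Quotient.eq_zero_iff_mem.mpr (Ideal.subset_span ⟨i, rfl⟩)
        rw [hv, Derivation.map_zero]
      | zero => simp
      | add a b _ _ ha hb => rw [map_add, map_add, ha, hb, add_zero]
      | smul a y _ hy => rw [map_smul, LinearMap.map_smul_of_tower, hy, smul_zero]
    have h1 := hz _ (hspan x)
    rw [map_smul, LinearMap.map_smul_of_tower, ← algebraMap_smul P g] at h1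
    exact (isUnit_of_dvd_unit (map_dvd _ (Dvd.intro_left _ rfl)) hu).smul_eq_zero.mp h1
  have hfu : Algebra.FormallyUnramified R (P ⧸ I) := ⟨subsingleton_of_forall_eq 0 fun x => by
    obtain ⟨y, rfl⟩ := KaehlerDifferential.mapBaseChange_surjective R P (P ⧸ I)
      Ideal.Quotient.mk_surjective x
    induction y using TensorProduct.induction_on with
    | zero => simp
    | add a b ha hb => rw [map_add, ha, hb, add_zero]
    | tmul a y =>
      rw [mapBaseChange_tmul]
      suffices KaehlerDifferential.map R R P (P ⧸ I) y = 0 by rw [this, smul_zero]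
      obtain ⟨y, rfl⟩ := (tensorKaehlerEquivOfFormallyEtale R B P).surjective y
      induction y using TensorProduct.induction_on with
      | zero => simp
      | add c d hc hd => rw [map_add, map_add, hc, hd, add_zero]
      | tmul c z =>
        rw [tensorKaehlerEquivOfFormallyEtale_apply, mapBaseChange_tmul,
          LinearMap.map_smul_of_tower, hker, smul_zero]⟩
  have : Algebra.FinitePresentation R (P ⧸ I) :=
    Algebra.FinitePresentation.quotient (Submodule.fg_span (Set.finite_range v))
  have het : Algebra.Etale R (P ⧸ I) :=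
    ⟨Algebra.FormallyEtale.iff_formallyUnramified_and_formallySmooth.mpr ⟨hfu, hfs⟩, inferInstance⟩
  refine ⟨{ Z := P ⧸ I, etale := het, h := h, proj := Ideal.Quotient.mkₐ B I,
            surj := Ideal.Quotient.mk_surjective }, ⟨Ideal.Quotient.liftₐ I
    (IsLocalization.liftAlgHom (M := Submonoid.powers h) (f := Algebra.ofId B Q.ResidueField)
      fun y => ?_) fun a ha => ?_⟩⟩
  · obtain ⟨_, n, rfl⟩ := y
    exact IsUnit.mk0 _ (by
      show algebraMap B Q.ResidueField (h ^ n) ≠ 0
      rw [map_pow]
      exact pow_ne_zero _ fun h0 => hh (Ideal.algebraMap_residueField_eq_zero.mp h0))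
  · rw [← RingHom.mem_ker]
    refine (Ideal.span_le (I := RingHom.ker _)).mpr ?_ ha
    rintro _ ⟨i, rfl⟩
    show _ = (0 : Q.ResidueField)
    rw [AlgHom.commutes]
    exact Ideal.algebraMap_residueField_eq_zero.mpr (hf i)

end Groth.Agent.Fam20
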