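import Mathlib
import Groth.Agent.Fam20.QuasiSection
import Groth.Agent.AlgGrp79.SepPoint
import Groth.Agent.WC97.Reduced
import Groth.Agent.FlatCrit65.ReducedGenFree

/-! Quasi-sections form a universally schematically dominant family. -/

universe u v

open TensorProduct

namespace Groth.Agent.Fam20

/-- Fibrewise injective families of maps to flat modules are universally injective. -/
theorem eq_zero_of_fibres {R : Type u} [CommRing R] [IsNoetherianRing R] {C : Type u}
    [AddCommGroup C] [Module R C] [Module.Flat R C] {ι : Type v} {W : ι → Type u}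
    [∀ i, AddCommGroup (W i)] [∀ i, Module R (W i)] [∀ i, Module.Flat R (W i)]
    (g : ∀ i, C →ₗ[R] W i)
    (H : ∀ (p : PrimeSpectrum R) (t : p.asIdeal.ResidueField ⊗[R] C),
      (∀ i, (g i).lTensor _ t = 0) → t = 0)
    (N : Type u) [AddCommGroup N] [Module R N] (t : N ⊗[R] C)
    (ht : ∀ i, (g i).lTensor N t = 0) : t = 0 := by
  obtain ⟨N', hfin, hsub⟩ := TensorProduct.exists_finite_submodule_left_of_setFinite {t}
    (Set.finite_singleton t)
  obtain ⟨t', rfl⟩ := hsub rfl
  suffices t' = 0 by rw [this, map_zero]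
  have ht' : ∀ i, (g i).lTensor N' t' = 0 := fun i => by
    apply Module.Flat.rTensor_preserves_injective_linearMap (M := W i) N'.subtype N'.injective_subtype
    rw [map_zero, ← LinearMap.comp_apply, LinearMap.rTensor_comp_lTensor,
      ← LinearMap.lTensor_comp_rTensor, LinearMap.comp_apply]
    exact ht i
  refine IsNoetherianRing.induction_on_isQuotientEquivQuotientPrime (A := R) hfin
    (motive := fun M _ _ _ => ∀ t : M ⊗[R] C, (∀ i, (g i).lTensor M t = 0) → t = 0) ?_ ?_ ?_ t' ht'
  · intro M _ _ _ _ t h; clear h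
    induction t using TensorProduct.induction_on with
    | zero => rfl
    | tmul a b => rw [Subsingleton.elim a 0, zero_tmul]
    | add a b ha hb => rw [ha, hb, add_zero]
  · intro M _ _ _ p e t ht
    let j : R ⧸ p.asIdeal →ₗ[R] p.asIdeal.ResidueField :=
      (IsScalarTower.toAlgHom R (R ⧸ p.asIdeal) p.asIdeal.ResidueField).toLinearMap
    have hj : Function.Injective (j ∘ₗ e.toLinearMap) :=
      p.asIdeal.injective_algebraMap_quotient_residueField.comp e.injective
    apply Module.Flat.rTensor_preserves_injective_linearMap (M := C) _ hj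
    rw [map_zero]
    refine H p _ fun i => ?_
    rw [← LinearMap.comp_apply, LinearMap.lTensor_comp_rTensor,
      ← LinearMap.rTensor_comp_lTensor, LinearMap.comp_apply, ht i, map_zero]
  · intro N₁ _ _ _ N₂ _ _ _ N₃ _ _ _ f₁ f₂ hf₁ hf₂ hex h₁ h₃ t ht
    have h0 : f₂.rTensor C t = 0 := h₃ _ fun i => by
      rw [← LinearMap.comp_apply, LinearMap.lTensor_comp_rTensor,
        ← LinearMap.rTensor_comp_lTensor, LinearMap.comp_apply, ht i, map_zero]
    obtain ⟨s, rfl⟩ := (rTensor_exact C hex hf₂ t).mp h0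
    rw [h₁ s fun i => ?_, map_zero]
    apply Module.Flat.rTensor_preserves_injective_linearMap (M := W i) f₁ hf₁
    rw [map_zero, ← LinearMap.comp_apply, LinearMap.rTensor_comp_lTensor,
      ← LinearMap.lTensor_comp_rTensor, LinearMap.comp_apply]
    exact ht i

/-- A nonzero section of a flat algebra over a smooth algebra over a field is seen at a separable
point of the smooth algebra. -/
theorem exists_point_detect (K : Type u) [Field K] {B : Type u} [CommRing B] [Algebra K B]
    [Algebra.Smooth K B] {C : Type u} [CommRing C] [Algebra B C] [Algebra.FiniteType B C]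
    [Module.Flat B C] (c : C) (hc : c ≠ 0) :
    ∃ (χ : B →ₐ[K] SeparableClosure K) (L : C →+ SeparableClosure K),
      (∀ b x, L (algebraMap B C b * x) = χ b * L x) ∧ L c ≠ 0 := by
  classical
  have : IsNoetherianRing B := Algebra.FiniteType.isNoetherianRing K B
  have : _root_.IsReduced B := Groth.Agent.WC97.isReduced_of_algebraSmooth K B
  let I := LinearMap.ker (LinearMap.toSpanSingleton B C c)
  have hreg : ∀ s ∈ I, s ∉ nonZeroDivisors B := fun s hs hs' =>
    hc ((Module.Flat.isSMulRegular_of_nonZeroDivisors (M := C) hs') (by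
      simpa [I] using hs))
  obtain ⟨x, hx0, hxI⟩ : ∃ x : B, x ≠ 0 ∧ ∀ s ∈ I, s * x = 0 := by
    have hfin := associatedPrimes.finite B B
    have hsub : (I : Set B) ⊆ ⋃ η ∈ hfin.toFinset, ↑(id η : Ideal B) := fun s hs => by
      have := hreg s hs
      have : s ∈ ((nonZeroDivisors B : Submonoid B) : Set B)ᶜ := this
      rw [← biUnion_associatedPrimes_eq_compl_nonZeroDivisors] at this
      simpa using this
    obtain ⟨η, hη, hle⟩ := (Ideal.subset_union_prime (⊥ : Ideal B) ⊥
      (fun η hη _ _ => (hfin.mem_toFinset.mp hη).isPrime)).mp hsub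
    obtain ⟨hp, x, rfl⟩ := (Submodule.isAssociatedPrime_iff).mp (hfin.mem_toFinset.mp hη)
    refine ⟨x, fun hx => hp.ne_top ?_, fun s hs => ?_⟩
    · rw [Ideal.eq_top_iff_one, Submodule.mem_colon_singleton, hx, smul_zero]
      exact zero_mem _
    · simpa using Submodule.mem_colon_singleton.mp (hle hs)
  obtain ⟨f, hf, ⟨a₀, rfl⟩, hfree, -⟩ :=
    Groth.Agent.FlatCrit65.generic_freeness_mul (R := B) (S := C) (M := C) hx0
  let f := x * a₀
  have := hfree.localizedModule
  let bas := Module.Free.chooseBasis (Localization.Away f) (LocalizedModule (.powers f) C)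
  let mk := LocalizedModule.mkLinearMap (Submonoid.powers f) C
  have hmk : mk c ≠ 0 := by
    intro h
    obtain ⟨⟨_, n, rfl⟩, hn⟩ := (IsLocalizedModule.eq_zero_iff (Submonoid.powers f) mk).mp h
    apply hf
    refine IsReduced.eq_zero _ ⟨n + 1, ?_⟩
    have : f ^ n * x = 0 := hxI _ (by simpa [I, Submonoid.smul_def] using hn)
    calc f ^ (n + 1) = f ^ n * x * a₀ := by ring
      _ = 0 := by rw [this, zero_mul]
  obtain ⟨k, hk⟩ : ∃ k, bas.repr (mk c) k ≠ 0 := by
    by_contra h
    push Not at h
    exact hmk (bas.repr.map_eq_zero_iff.mp (Finsupp.ext h))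
  obtain ⟨a, ⟨s, hs⟩, ha⟩ := IsLocalization.exists_mk'_eq (Submonoid.powers f) (bas.repr (mk c) k)
  have haf : ¬ IsNilpotent (a * f) := by
    rw [isNilpotent_iff_eq_zero]
    intro h
    apply hk
    rw [← ha, IsLocalization.mk'_eq_zero_iff]
    exact ⟨⟨f, Submonoid.mem_powers f⟩, by rw [mul_comm]; exact h⟩
  let Ks := SeparableClosure K
  let Baf := Localization.Away (a * f)
  have : Nontrivial Baf := not_subsingleton_iff_nontrivial.mp fun h =>
    haf ((IsLocalization.subsingleton_iff (M := Submonoid.powers (a * f)) (S := Baf)).mp h)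
  have : Algebra.Etale B Baf := Algebra.Etale.of_isLocalizationAway (a * f)
  have : Algebra.Smooth K Baf := Algebra.Smooth.comp K B Baf
  have : Nontrivial (Ks ⊗[K] Baf) :=
    (Algebra.TensorProduct.includeRight_injective (R := K) (A := Ks) (B := Baf)
      (algebraMap K Ks).injective).nontrivial
  obtain ⟨φ⟩ := Groth.Agent.AlgGrp79.exists_point_of_smooth Ks (Ks ⊗[K] Baf)
  let χ : B →ₐ[K] Ks :=
    ((φ.restrictScalars K).comp Algebra.TensorProduct.includeRight).comp
      (IsScalarTower.toAlgHom K B Baf)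
  have hχaf : IsUnit (χ (a * f)) :=
    (IsLocalization.Away.algebraMap_isUnit (S := Baf) (a * f)).map
      ((φ.restrictScalars K).comp Algebra.TensorProduct.includeRight)
  have hχf : ∀ y : Submonoid.powers f, IsUnit (χ y) := fun ⟨_, n, rfl⟩ => by
    show IsUnit (χ (f ^ n))
    rw [map_pow]
    rw [map_mul] at hχaf
    exact (isUnit_of_mul_isUnit_right hχaf).pow n
  let χf : Localization.Away f →+* Ks := IsLocalization.lift (g := χ.toRingHom) hχf
  refine ⟨χ, (χf.toAddMonoidHom.comp ((bas.coord k).toAddMonoidHom)).comp mk.toAddMonoidHom,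
    fun b y => ?_, ?_⟩
  · show χf (bas.coord k (mk (algebraMap B C b * y))) = χ b * χf (bas.coord k (mk y))
    rw [← Algebra.smul_def, map_smul, ← algebraMap_smul (Localization.Away f) b (mk y), map_smul,
      smul_eq_mul, map_mul, IsLocalization.lift_eq]
    rfl
  · show χf (bas.repr (mk c) k) ≠ 0
    intro h
    rw [← ha, IsLocalization.lift_mk'_spec, mul_zero] at h
    rw [map_mul] at hχaf
    exact (isUnit_of_mul_isUnit_left hχaf).ne_zero h

end Groth.Agent.Fam20

namespace Groth.Agent.Fam20

/-- The map of an algebra to its pullback to a quasi-section. -/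
noncomputable def toQS (R : Type u) {B : Type u} [CommRing R] [CommRing B] [Algebra R B]
    (C : Type u) [CommRing C] [Algebra R C] [Algebra B C] [IsScalarTower R B C] (W : QS R B) :
    C →ₗ[R] W.Z ⊗[B] C :=
  ((Algebra.TensorProduct.includeRight : C →ₐ[B] W.Z ⊗[B] C).restrictScalars R).toLinearMap

theorem fibre_detect {R B C : Type u} [CommRing R] [CommRing B] [CommRing C] [Algebra R B]
    [Algebra R C] [Algebra B C] [IsScalarTower R B C] [Algebra.Smooth R B]
    [Algebra.FiniteType B C] [Module.Flat B C] (p : PrimeSpectrum R)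
    (t : p.asIdeal.ResidueField ⊗[R] C)
    (ht : ∀ W : QS R B, (toQS R C W).lTensor _ t = 0) : t = 0 := by
  by_contra ht0
  let κ := p.asIdeal.ResidueField
  let B' := κ ⊗[R] B
  let iB : B →ₐ[R] B' := Algebra.TensorProduct.includeRight
  letI : Algebra B B' := iB.toRingHom.toAlgebra
  haveI : IsScalarTower R B B' := IsScalarTower.of_algebraMap_eq fun r => (iB.commutes r).symm
  let C' := B' ⊗[B] C
  let η : κ ⊗[R] C →ₐ[R] C' :=
    Algebra.TensorProduct.lift
      (((Algebra.TensorProduct.includeLeft : B' →ₐ[B] C').restrictScalars R).comp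
        (Algebra.TensorProduct.includeLeft : κ →ₐ[R] B'))
      ((Algebra.TensorProduct.includeRight : C →ₐ[B] C').restrictScalars R)
      fun _ _ => Commute.all _ _
  letI : Algebra B (κ ⊗[R] C) :=
    ((Algebra.TensorProduct.includeRight : C →ₐ[R] κ ⊗[R] C).toRingHom.comp
      (algebraMap B C)).toAlgebra
  let ε₁ : B' →ₐ[B] κ ⊗[R] C :=
    { (Algebra.TensorProduct.map (AlgHom.id R κ) (IsScalarTower.toAlgHom R B C)).toRingHom with
      commutes' := fun b => rfl }
  let ε₂ : C →ₐ[B] κ ⊗[R] C :=
    { (Algebra.TensorProduct.includeRight : C →ₐ[R] κ ⊗[R] C).toRingHom with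
      commutes' := fun b => rfl }
  let ε : C' →ₐ[B] κ ⊗[R] C := Algebra.TensorProduct.lift ε₁ ε₂ fun _ _ => Commute.all _ _
  have hεη : ∀ x, ε (η x) = x := fun x => by
    induction x using TensorProduct.induction_on with
    | zero => simp
    | add a b ha hb => rw [map_add, map_add, ha, hb]
    | tmul a c =>
      rw [Algebra.TensorProduct.lift_tmul, map_mul]
      show ε ((a ⊗ₜ[R] (1 : B)) ⊗ₜ[B] (1 : C)) * ε ((1 : B') ⊗ₜ[B] c) = _
      rw [Algebra.TensorProduct.lift_tmul, Algebra.TensorProduct.lift_tmul, map_one ε₂, map_one ε₁,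
        mul_one, one_mul]
      show Algebra.TensorProduct.map (AlgHom.id R κ) (IsScalarTower.toAlgHom R B C) (a ⊗ₜ[R] 1) *
        ((1 : κ) ⊗ₜ[R] c) = _
      simp
  have hηt : η t ≠ 0 := fun h => ht0 (by rw [← hεη t, h, map_zero])
  obtain ⟨χ', L, hL, hLt⟩ := exists_point_detect κ (B := B') (C := C') (η t) hηt
  let Ks := SeparableClosure κ
  letI : Algebra R Ks := ((algebraMap κ Ks).comp (algebraMap R κ)).toAlgebra
  haveI : IsScalarTower R κ Ks := IsScalarTower.of_algebraMap_eq fun _ => rfl
  let χ : B →ₐ[R] Ks := (χ'.restrictScalars R).comp iB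
  let Q := RingHom.ker χ.toRingHom
  haveI : Q.IsPrime := RingHom.ker_isPrime _
  haveI : Q.LiesOver p.asIdeal := ⟨by
    ext r
    rw [Ideal.mem_comap, RingHom.mem_ker, AlgHom.toRingHom_eq_coe, RingHom.coe_coe, AlgHom.commutes,
      IsScalarTower.algebraMap_apply R κ Ks, map_eq_zero_iff _ (algebraMap κ Ks).injective,
      Ideal.algebraMap_residueField_eq_zero]⟩
  let e : Q.ResidueField →ₐ[R] Ks := Ideal.ResidueField.liftₐ Q χ le_rfl
    fun b hb => IsUnit.mk0 _ hb
  letI : Algebra κ Q.ResidueField :=
    (Ideal.ResidueField.map p.asIdeal Q (algebraMap R B) (Q.over_def p.asIdeal)).toAlgebra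
  haveI : IsScalarTower R κ Q.ResidueField := IsScalarTower.of_algebraMap_eq fun r => by
    rw [RingHom.algebraMap_toAlgebra, Ideal.ResidueField.map_algebraMap,
      ← IsScalarTower.algebraMap_apply]
  let e' : Q.ResidueField →ₐ[κ] Ks :=
    { e.toRingHom with
      commutes' := fun a => RingHom.congr_fun (Ideal.ResidueField.ringHom_ext
        (f := e.toRingHom.comp (algebraMap κ Q.ResidueField)) (g := algebraMap κ Ks) (by
          refine RingHom.ext fun r => ?_
          show e (algebraMap κ Q.ResidueField (algebraMap R κ r)) =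
            algebraMap κ Ks (algebraMap R κ r)
          rw [← IsScalarTower.algebraMap_apply, ← IsScalarTower.algebraMap_apply, e.commutes])) a }
  haveI : Algebra.IsSeparable κ Q.ResidueField := Algebra.IsSeparable.of_algHom κ Ks e'
  haveI : Algebra.FormallyUnramified κ Q.ResidueField :=
    Algebra.FormallyUnramified.of_isSeparable _ _
  haveI : Algebra.FormallyUnramified (R ⧸ p.asIdeal) κ :=
    Algebra.FormallyUnramified.of_isLocalization (nonZeroDivisors (R ⧸ p.asIdeal))
  haveI : Algebra.FormallyUnramified R κ := Algebra.FormallyUnramified.comp R (R ⧸ p.asIdeal) κ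
  haveI : Algebra.FormallyUnramified R Q.ResidueField :=
    Algebra.FormallyUnramified.comp R κ Q.ResidueField
  obtain ⟨W, ⟨ψ₀⟩⟩ := exists_qs (R := R) Q
  let ψ : W.Z →+* Ks := e.toRingHom.comp ψ₀.toRingHom
  have hψ : ∀ b, ψ (algebraMap B W.Z b) = χ b := fun b => by
    show e (ψ₀ (algebraMap B W.Z b)) = _
    rw [AlgHom.commutes]
    exact Ideal.ResidueField.liftₐ_algebraMap Q χ _ _ b
  let L₀ : C →+ Ks := L.comp (Algebra.TensorProduct.includeRight : C →ₐ[B] C').toAddMonoidHom
  have hL₀ : ∀ b c, L₀ (b • c) = χ b * L₀ c := fun b c => by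
    show L ((1 : B') ⊗ₜ[B] (b • c)) = χ' (iB b) * L ((1 : B') ⊗ₜ[B] c)
    rw [← hL, TensorProduct.tmul_smul, TensorProduct.smul_tmul', Algebra.smul_def, mul_one,
      Algebra.TensorProduct.algebraMap_apply, Algebra.algebraMap_self, RingHom.id_apply,
      Algebra.TensorProduct.tmul_mul_tmul, mul_one, one_mul]
    rfl
  let Λ : W.Z ⊗[B] C →+ Ks := TensorProduct.liftAddHom
    ((AddMonoidHom.mul.compl₂ L₀).comp ψ.toAddMonoidHom) fun b z c => by
      show ψ (b • z) * L₀ c = ψ z * L₀ (b • c)
      rw [hL₀, Algebra.smul_def, map_mul, hψ]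
      ring
  have hΛ : ∀ (r : R) w, Λ (r • w) = algebraMap R Ks r * Λ w := fun r w => by
    induction w using TensorProduct.induction_on with
    | zero => simp
    | add a b ha hb => rw [smul_add, map_add, map_add, ha, hb, mul_add]
    | tmul z c =>
      show ψ (r • z) * L₀ c = algebraMap R Ks r * (ψ z * L₀ c)
      rw [← algebraMap_smul B r z, Algebra.smul_def, map_mul, hψ, AlgHom.commutes, mul_assoc]
  let Φ : κ ⊗[R] (W.Z ⊗[B] C) →+ Ks := TensorProduct.liftAddHom
    ((AddMonoidHom.mul.compl₂ Λ).comp (algebraMap κ Ks).toAddMonoidHom) fun r a w => by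
      show algebraMap κ Ks (r • a) * Λ w = algebraMap κ Ks a * Λ (r • w)
      rw [hΛ, Algebra.smul_def, map_mul, ← IsScalarTower.algebraMap_apply]
      ring
  have key : ∀ x, Φ ((toQS R C W).lTensor κ x) = L (η x) := fun x => by
    induction x using TensorProduct.induction_on with
    | zero => simp
    | add a b ha hb => rw [map_add, map_add, map_add, map_add, ha, hb]
    | tmul a c =>
      show algebraMap κ Ks a * (ψ 1 * L₀ c) = L (η (a ⊗ₜ[R] c))
      have : η (a ⊗ₜ[R] c) =
          algebraMap B' C' (algebraMap κ B' a) * ((1 : B') ⊗ₜ[B] c) :=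
        Algebra.TensorProduct.lift_tmul _ _ _ _ _
      rw [map_one, one_mul, this, hL, AlgHom.commutes]
      rfl
  apply hLt
  rw [← key, ht W, map_zero]

theorem eq_zero_of_qs_noetherian {R B C : Type u} [CommRing R] [IsNoetherianRing R] [CommRing B]
    [CommRing C] [Algebra R B] [Algebra R C] [Algebra B C] [IsScalarTower R B C]
    [Algebra.Smooth R B] [Algebra.FiniteType B C] [Module.Flat B C]
    (N : Type u) [AddCommGroup N] [Module R N] (t : N ⊗[R] C)
    (ht : ∀ W : QS R B, (toQS R C W).lTensor N t = 0) : t = 0 := by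
  haveI : Module.Flat R C := Module.Flat.trans R B C
  haveI : ∀ W : QS R B, Module.Flat R (W.Z ⊗[B] C) := fun W => by
    haveI := W.etale
    haveI : Module.Flat R W.Z := inferInstance
    exact Module.Flat.trans R W.Z _
  exact eq_zero_of_fibres (toQS R C) fibre_detect N t ht

end Groth.Agent.Fam20
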