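import Mathlib
import Groth.Agent.Fam20.SchDomAlg
import Groth.Agent.Desc59.FppfModel

/-! Quasi-sections are schematically dominant after flat base change, over any base ring. -/

universe u

open TensorProduct

namespace Groth.Agent.Fam20

/-- A Noetherian stage of a smooth algebra containing finitely many given elements. -/
theorem exists_base_stage {R B : Type u} [CommRing R] [CommRing B] [Algebra R B]
    {A₀ : Subalgebra ℤ R} [Algebra.FiniteType ℤ A₀] {B₀ : Type u} [CommRing B₀] [Algebra A₀ B₀]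
    [Algebra.Smooth A₀ B₀] (e : B ≃ₐ[R] R ⊗[A₀] B₀) (T : Finset B) :
    ∃ (R₁ B₁ : Type u) (_ : CommRing R₁) (_ : CommRing B₁) (_ : Algebra R₁ R) (_ : Algebra R₁ B₁)
      (_ : IsNoetherianRing R₁) (_ : Algebra.Smooth R₁ B₁) (j : B₁ →+* B),
      Function.Injective j ∧ (∀ r, j (algebraMap R₁ B₁ r) = algebraMap R B (algebraMap R₁ R r)) ∧
      (∀ b₀, ∃ b₁, j b₁ = e.symm ((1 : R) ⊗ₜ[A₀] b₀)) ∧
      (∀ b ∈ T, ∃ b₁, j b₁ = b) ∧
      (∀ (Z : Type u) [CommRing Z] [Algebra R Z] (v : B₁ →+* Z),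
        (∀ r, v (algebraMap R₁ B₁ r) = algebraMap R Z (algebraMap R₁ R r)) →
          ∃ β : B →ₐ[R] Z, β.toRingHom.comp j = v) := by
  classical
  choose S hS using fun b : B => TensorProduct.exists_finset (e b)
  let G : Finset R := T.biUnion fun b => (S b).image Prod.fst
  let R₁ : Subalgebra A₀ R := Algebra.adjoin A₀ (G : Set R)
  have : Algebra.FiniteType A₀ R₁ := (Subalgebra.fg_iff_finiteType R₁).mp ⟨G, rfl⟩
  have : IsNoetherianRing A₀ := Algebra.FiniteType.isNoetherianRing ℤ A₀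
  have : IsNoetherianRing R₁ := Algebra.FiniteType.isNoetherianRing A₀ R₁
  let j₀ : R₁ ⊗[A₀] B₀ →ₐ[A₀] R ⊗[A₀] B₀ :=
    Algebra.TensorProduct.map R₁.val (AlgHom.id A₀ B₀)
  let j : R₁ ⊗[A₀] B₀ →+* B := e.symm.toRingEquiv.toRingHom.comp j₀.toRingHom
  have hjt : ∀ r b₀, j (r ⊗ₜ[A₀] b₀) = e.symm ((r : R) ⊗ₜ[A₀] b₀) := fun _ _ => rfl
  refine ⟨R₁, R₁ ⊗[A₀] B₀, inferInstance, inferInstance, inferInstance, inferInstance,
    inferInstance, inferInstance, j, ?_, fun r => e.symm.commutes r.1,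
    fun b₀ => ⟨1 ⊗ₜ b₀, rfl⟩, fun b hb => ?_, fun Z _ _ v hv => ?_⟩
  · exact e.symm.injective.comp (Module.Flat.rTensor_preserves_injective_linearMap (M := B₀)
      R₁.val.toLinearMap Subtype.val_injective)
  · refine ⟨∑ x ∈ (S b).attach, (⟨x.1.1, Algebra.subset_adjoin (Finset.mem_biUnion.mpr
      ⟨b, hb, Finset.mem_image_of_mem _ x.2⟩)⟩ : R₁) ⊗ₜ[A₀] x.1.2, ?_⟩
    rw [map_sum]
    simp only [hjt]
    rw [Finset.sum_attach (S b) fun x => e.symm (x.1 ⊗ₜ[A₀] x.2), ← map_sum, ← hS b,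
      e.symm_apply_apply]
  · let v₀ : B₀ →ₐ[A₀] Z :=
      { v.comp (Algebra.TensorProduct.includeRight : B₀ →ₐ[A₀] R₁ ⊗[A₀] B₀).toRingHom with
        commutes' := fun a => by
          show v ((1 : R₁) ⊗ₜ[A₀] algebraMap A₀ B₀ a) = _
          rw [← Algebra.TensorProduct.tmul_one_eq_one_tmul]
          exact hv (algebraMap A₀ R₁ a) }
    let L : R ⊗[A₀] B₀ →ₐ[R] Z :=
      Algebra.TensorProduct.lift (Algebra.ofId R Z) v₀ fun _ _ => Commute.all _ _
    refine ⟨L.comp e.toAlgHom, ?_⟩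
    refine Algebra.TensorProduct.ringHom_ext (RingHom.ext fun r => ?_) (RingHom.ext fun b₀ => ?_)
    · show L (e (j (r ⊗ₜ[A₀] 1))) = v (r ⊗ₜ[A₀] 1)
      rw [hjt, e.apply_symm_apply, Algebra.TensorProduct.lift_tmul, map_one, mul_one]
      exact (hv r).symm
    · show L (e (j (1 ⊗ₜ[A₀] b₀))) = v (1 ⊗ₜ[A₀] b₀)
      rw [hjt, e.apply_symm_apply, Algebra.TensorProduct.lift_tmul, OneMemClass.coe_one, map_one,
        one_mul]
      rfl

/-- A model of an algebra over a stage of its base. -/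
theorem exists_top_stage {B B₁ C : Type u} [CommRing B] [CommRing B₁] [CommRing C] [Algebra B C]
    {A₁ : Type u} [CommRing A₁] [Algebra A₁ B] {C₁ : Type u} [CommRing C₁] [Algebra A₁ C₁]
    [Algebra.FiniteType A₁ C₁] [Module.Flat A₁ C₁] (e₁ : C ≃ₐ[B] B ⊗[A₁] C₁) (j : B₁ →+* B)
    (ι₁ : A₁ →+* B₁) (hι₁ : j.comp ι₁ = algebraMap A₁ B) :
    ∃ (C₂ : Type u) (_ : CommRing C₂) (_ : Algebra B₁ C₂) (_ : Algebra.FiniteType B₁ C₂)
      (_ : Module.Flat B₁ C₂) (φ : C₂ →+* C),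
      φ.comp (algebraMap B₁ C₂) = (algebraMap B C).comp j ∧
      (∀ S : Subring C, (∀ b, algebraMap B C b ∈ S) → (∀ x, φ x ∈ S) → S = ⊤) ∧
      (∀ (T : Type u) [CommRing T] (β : B →+* T) (ω : C₂ →+* T),
        β.comp j = ω.comp (algebraMap B₁ C₂) →
          ∃ γ : C →+* T, γ.comp (algebraMap B C) = β ∧ γ.comp φ = ω) := by
  letI : Algebra A₁ B₁ := ι₁.toAlgebra
  letI : Algebra A₁ C := ((algebraMap B C).comp (algebraMap A₁ B)).toAlgebra
  let u₁ : B₁ →ₐ[A₁] C :=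
    { (algebraMap B C).comp j with
      commutes' := fun a => congrArg (algebraMap B C) (RingHom.congr_fun hι₁ a) }
  let u₂ : C₁ →ₐ[A₁] C :=
    { e₁.symm.toRingEquiv.toRingHom.comp
        (Algebra.TensorProduct.includeRight : C₁ →ₐ[A₁] B ⊗[A₁] C₁).toRingHom with
      commutes' := fun a => by
        show e₁.symm ((1 : B) ⊗ₜ[A₁] algebraMap A₁ C₁ a) = algebraMap B C (algebraMap A₁ B a)
        rw [← Algebra.TensorProduct.tmul_one_eq_one_tmul]
        exact e₁.symm.commutes _ }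
  let φ : B₁ ⊗[A₁] C₁ →ₐ[A₁] C := Algebra.TensorProduct.lift u₁ u₂ fun _ _ => Commute.all _ _
  refine ⟨B₁ ⊗[A₁] C₁, inferInstance, inferInstance, inferInstance, inferInstance, φ.toRingHom,
    RingHom.ext fun b => ?_, fun S hB hφ => ?_, fun T _ β ω hω => ?_⟩
  · show φ (b ⊗ₜ[A₁] 1) = _
    rw [Algebra.TensorProduct.lift_tmul, map_one, mul_one]
    rfl
  · rw [eq_top_iff]
    intro x _
    obtain ⟨y, rfl⟩ := e₁.symm.surjective x
    induction y using TensorProduct.induction_on with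
    | zero => rw [map_zero]; exact zero_mem _
    | add a b ha hb => rw [map_add]; exact add_mem (ha trivial) (hb trivial)
    | tmul b c₁ =>
      have h : φ ((1 : B₁) ⊗ₜ[A₁] c₁) = e₁.symm ((1 : B) ⊗ₜ[A₁] c₁) := by
        rw [Algebra.TensorProduct.lift_tmul, map_one, one_mul]
        rfl
      have : e₁.symm (b ⊗ₜ[A₁] c₁) = algebraMap B C b * φ ((1 : B₁) ⊗ₜ[A₁] c₁) := by
        rw [h, ← e₁.symm.commutes, ← map_mul, Algebra.TensorProduct.algebraMap_apply,
          Algebra.algebraMap_self, RingHom.id_apply, Algebra.TensorProduct.tmul_mul_tmul, mul_one,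
          one_mul]
      rw [this]
      exact mul_mem (hB b) (hφ _)
  · letI : Algebra A₁ T := (β.comp (algebraMap A₁ B)).toAlgebra
    let w₀ : B →ₐ[A₁] T := { β with commutes' := fun _ => rfl }
    let w₁ : C₁ →ₐ[A₁] T :=
      { ω.comp (Algebra.TensorProduct.includeRight : C₁ →ₐ[A₁] B₁ ⊗[A₁] C₁).toRingHom with
        commutes' := fun a => by
          show ω ((1 : B₁) ⊗ₜ[A₁] algebraMap A₁ C₁ a) = β (algebraMap A₁ B a)
          rw [← RingHom.congr_fun hι₁ a, ← Algebra.TensorProduct.tmul_one_eq_one_tmul]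
          exact (RingHom.congr_fun hω (ι₁ a)).symm }
    let γ₁ : B ⊗[A₁] C₁ →ₐ[A₁] T :=
      Algebra.TensorProduct.lift w₀ w₁ fun _ _ => Commute.all _ _
    refine ⟨γ₁.toRingHom.comp e₁.toRingEquiv.toRingHom, RingHom.ext fun b => ?_, ?_⟩
    · show γ₁ (e₁ (algebraMap B C b)) = β b
      rw [e₁.commutes, Algebra.TensorProduct.algebraMap_apply, Algebra.algebraMap_self,
        RingHom.id_apply, Algebra.TensorProduct.lift_tmul, map_one, mul_one]
      rfl
    · refine Algebra.TensorProduct.ringHom_ext (RingHom.ext fun b₁ => ?_) (RingHom.ext fun c₁ => ?_)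
      · show γ₁ (e₁ (φ (b₁ ⊗ₜ[A₁] 1))) = ω (algebraMap B₁ _ b₁)
        rw [Algebra.TensorProduct.lift_tmul, map_one, mul_one]
        show γ₁ (e₁ (algebraMap B C (j b₁))) = _
        rw [e₁.commutes, Algebra.TensorProduct.algebraMap_apply, Algebra.algebraMap_self,
          RingHom.id_apply, Algebra.TensorProduct.lift_tmul, map_one, mul_one]
        exact RingHom.congr_fun hω b₁
      · show γ₁ (e₁ (φ (1 ⊗ₜ[A₁] c₁))) = ω (1 ⊗ₜ[A₁] c₁)
        rw [Algebra.TensorProduct.lift_tmul, map_one, one_mul]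
        show γ₁ (e₁ (e₁.symm ((1 : B) ⊗ₜ[A₁] c₁))) = _
        rw [e₁.apply_symm_apply, Algebra.TensorProduct.lift_tmul, map_one, one_mul]
        rfl

section

variable {R B : Type u} [CommRing R] [CommRing B] [Algebra R B] {R₁ B₁ : Type u} [CommRing R₁]
  [CommRing B₁] [Algebra R₁ R] [Algebra R₁ B₁]

/-- Quasi-sections extend along change of base. -/
theorem exists_qs_baseChange (j : B₁ →+* B)
    (hj : ∀ r, j (algebraMap R₁ B₁ r) = algebraMap R B (algebraMap R₁ R r))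
    (hlift : ∀ (Z : Type u) [CommRing Z] [Algebra R Z] (v : B₁ →+* Z),
        (∀ r, v (algebraMap R₁ B₁ r) = algebraMap R Z (algebraMap R₁ R r)) →
          ∃ β : B →ₐ[R] Z, β.toRingHom.comp j = v)
    (W₁ : QS R₁ B₁) :
    ∃ (W : QS R B) (θ : W.Z →+* R ⊗[R₁] W₁.Z),
      (∀ r, θ (algebraMap B W.Z (algebraMap R B r)) = algebraMap R (R ⊗[R₁] W₁.Z) r) ∧
      ∀ b₁, θ (algebraMap B W.Z (j b₁)) = (1 : R) ⊗ₜ[R₁] algebraMap B₁ W₁.Z b₁ := by
  let Z := R ⊗[R₁] W₁.Z
  obtain ⟨β, hβ'⟩ := hlift Z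
    ((Algebra.TensorProduct.includeRight : W₁.Z →ₐ[R₁] Z).toRingHom.comp (algebraMap B₁ W₁.Z))
    fun r => by
      show (1 : R) ⊗ₜ[R₁] algebraMap B₁ W₁.Z (algebraMap R₁ B₁ r) = _
      rw [← IsScalarTower.algebraMap_apply, ← Algebra.TensorProduct.tmul_one_eq_one_tmul]
      rfl
  have hβ : ∀ b₁, β (j b₁) = (1 : R) ⊗ₜ[R₁] algebraMap B₁ W₁.Z b₁ :=
    fun b₁ => RingHom.congr_fun hβ' b₁
  letI : Algebra B Z := β.toRingHom.toAlgebra
  haveI : IsScalarTower R B Z := IsScalarTower.of_algebraMap_eq fun r => (β.commutes r).symm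
  have hunit : ∀ y : Submonoid.powers (j W₁.h), IsUnit (Algebra.ofId B Z y) := by
    rintro ⟨_, n, rfl⟩
    show IsUnit (β (j W₁.h ^ n))
    rw [map_pow, hβ]
    refine ((?_ : IsUnit (algebraMap B₁ W₁.Z W₁.h)).map
      (Algebra.TensorProduct.includeRight : W₁.Z →ₐ[R₁] Z)).pow n
    rw [← W₁.proj.commutes]
    exact (IsLocalization.Away.algebraMap_isUnit W₁.h).map W₁.proj
  let proj : Localization.Away (j W₁.h) →ₐ[B] Z :=
    IsLocalization.liftAlgHom (f := Algebra.ofId B Z) hunit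
  have hproj : ∀ z₁, ((1 : R) ⊗ₜ[R₁] z₁ : Z) ∈ proj.range := by
    intro z₁
    obtain ⟨y, rfl⟩ := W₁.surj z₁
    have hcomm : proj.toRingHom.comp (Localization.awayMap j W₁.h) =
        (Algebra.TensorProduct.includeRight : W₁.Z →ₐ[R₁] Z).toRingHom.comp
          W₁.proj.toRingHom := by
      refine IsLocalization.ringHom_ext (Submonoid.powers W₁.h) (RingHom.ext fun b₁ => ?_)
      show proj (Localization.awayMap j W₁.h (algebraMap B₁ _ b₁)) =
        (1 : R) ⊗ₜ[R₁] W₁.proj (algebraMap B₁ _ b₁)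
      rw [Localization.awayMap, IsLocalization.Away.map, IsLocalization.map_eq, AlgHom.commutes,
        AlgHom.commutes]
      exact hβ b₁
    exact ⟨_, RingHom.congr_fun hcomm y⟩
  have hsurj : Function.Surjective proj := by
    rw [← AlgHom.range_eq_top, eq_top_iff]
    intro z _
    induction z using TensorProduct.induction_on with
    | zero => exact zero_mem _
    | add a b ha hb => exact add_mem (ha trivial) (hb trivial)
    | tmul r z₁ =>
      have : (r ⊗ₜ[R₁] z₁ : Z) = algebraMap B Z (algebraMap R B r) * ((1 : R) ⊗ₜ[R₁] z₁) := by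
        rw [← IsScalarTower.algebraMap_apply, Algebra.TensorProduct.algebraMap_apply,
          Algebra.algebraMap_self, RingHom.id_apply, Algebra.TensorProduct.tmul_mul_tmul, mul_one,
          one_mul]
      rw [this]
      exact mul_mem (Subalgebra.algebraMap_mem _ _) (hproj z₁)
  haveI := W₁.etale
  exact ⟨{ Z := Z, etale := inferInstance, h := j W₁.h, proj := proj, surj := hsurj },
    RingHom.id Z, fun r => β.commutes r, hβ⟩

end

/-- Quasi-sections are schematically dominant after every flat finitely presented base change. -/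
theorem eq_zero_of_qs {R B C : Type u} [CommRing R] [CommRing B] [CommRing C] [Algebra R B]
    [Algebra B C] [Algebra.Smooth R B] [Algebra.FinitePresentation B C] [Module.Flat B C] (c : C)
    (hc : ∀ W : QS R B, (1 : W.Z) ⊗ₜ[B] c = 0) : c = 0 := by
  classical
  obtain ⟨A₀, B₀, _, _, hA₀, hB₀, ⟨e⟩⟩ := Algebra.Smooth.exists_subalgebra_fg ℤ R B
  haveI : Algebra.FiniteType ℤ A₀ := (Subalgebra.fg_iff_finiteType A₀).mp hA₀
  letI : Algebra B₀ B := (e.symm.toRingEquiv.toRingHom.comp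
    (Algebra.TensorProduct.includeRight : B₀ →ₐ[A₀] R ⊗[A₀] B₀).toRingHom).toAlgebra
  obtain ⟨A₁, C₁, _, _, ⟨T, hT⟩, _, _, ⟨e₁⟩⟩ :=
    Groth.Agent.Desc59.exists_subalgebra_fg_flat B₀ B C
  obtain ⟨R₁, B₁, _, _, _, _, _, _, j, hjinj, hjR, hjB₀, hjT, hlift⟩ := exists_base_stage e T
  have hle : A₁.toSubring ≤ j.range := by
    intro a ha
    change a ∈ A₁ at ha
    rw [← hT] at ha
    induction ha using Algebra.adjoin_induction with
    | mem b hb => exact hjT b hb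
    | algebraMap b₀ => exact hjB₀ b₀
    | add a b _ _ ha hb => exact add_mem ha hb
    | mul a b _ _ ha hb => exact mul_mem ha hb
  let E := RingEquiv.ofBijective j.rangeRestrict
    ⟨fun x y h => hjinj (congrArg Subtype.val h), j.rangeRestrict_surjective⟩
  let ι₁ : A₁ →+* B₁ := E.symm.toRingHom.comp (Subring.inclusion hle)
  have hι₁ : j.comp ι₁ = algebraMap A₁ B := by
    ext a
    exact congrArg Subtype.val (E.apply_symm_apply (Subring.inclusion hle a))
  obtain ⟨C₂, _, _, _, _, φ, hφ, hgen, hpo⟩ := exists_top_stage e₁ j ι₁ hι₁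
  letI : Algebra R₁ C₂ := ((algebraMap B₁ C₂).comp (algebraMap R₁ B₁)).toAlgebra
  haveI : IsScalarTower R₁ B₁ C₂ := IsScalarTower.of_algebraMap_eq fun _ => rfl
  letI : Algebra R₁ C := (((algebraMap B C).comp (algebraMap R B)).comp (algebraMap R₁ R)).toAlgebra
  let π : R ⊗[R₁] C₂ →ₐ[R₁] C := Algebra.TensorProduct.lift
    { (algebraMap B C).comp (algebraMap R B) with commutes' := fun r => rfl }
    { φ with
      commutes' := fun r => by
        show φ (algebraMap B₁ C₂ (algebraMap R₁ B₁ r)) = _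
        rw [← RingHom.comp_apply φ, hφ, RingHom.comp_apply, hjR]
        rfl }
    fun _ _ => Commute.all _ _
  have hπ : π.toRingHom.range = ⊤ := by
    refine hgen _ (fun b => ?_) fun x => ⟨(1 : R) ⊗ₜ[R₁] x, ?_⟩
    · obtain ⟨y, rfl⟩ := e.symm.surjective b
      induction y using TensorProduct.induction_on with
      | zero => rw [map_zero, map_zero]; exact zero_mem _
      | add a b ha hb => rw [map_add, map_add]; exact add_mem ha hb
      | tmul r b₀ =>
        obtain ⟨b₁, hb₁⟩ := hjB₀ b₀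
        refine ⟨r ⊗ₜ[R₁] algebraMap B₁ C₂ b₁, ?_⟩
        show π _ = _
        rw [Algebra.TensorProduct.lift_tmul]
        show algebraMap B C (algebraMap R B r) * φ (algebraMap B₁ C₂ b₁) = _
        rw [← RingHom.comp_apply φ, hφ, RingHom.comp_apply, hb₁, ← map_mul, ← e.symm.commutes,
          ← map_mul, Algebra.TensorProduct.algebraMap_apply, Algebra.algebraMap_self,
          RingHom.id_apply, Algebra.TensorProduct.tmul_mul_tmul, mul_one, one_mul]
    · show π _ = _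
      rw [Algebra.TensorProduct.lift_tmul, map_one, one_mul]
      rfl
  obtain ⟨t, rfl⟩ : c ∈ π.toRingHom.range := hπ ▸ Subring.mem_top c
  suffices t = 0 by rw [this]; exact map_zero _
  refine eq_zero_of_qs_noetherian (B := B₁) R t fun W₁ => ?_
  obtain ⟨W, θ, hθR, hθ⟩ := exists_qs_baseChange j hjR hlift W₁
  let inl : R ⊗[R₁] W₁.Z →ₐ[R₁] R ⊗[R₁] (W₁.Z ⊗[B₁] C₂) :=
    Algebra.TensorProduct.map (AlgHom.id R₁ R)
      ((Algebra.TensorProduct.includeLeft : W₁.Z →ₐ[B₁] W₁.Z ⊗[B₁] C₂).restrictScalars R₁)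
  let zT : W.Z →+* R ⊗[R₁] (W₁.Z ⊗[B₁] C₂) := inl.toRingHom.comp θ
  let ω : C₂ →+* R ⊗[R₁] (W₁.Z ⊗[B₁] C₂) :=
    (Algebra.TensorProduct.includeRight :
        W₁.Z ⊗[B₁] C₂ →ₐ[R₁] R ⊗[R₁] (W₁.Z ⊗[B₁] C₂)).toRingHom.comp
      (Algebra.TensorProduct.includeRight : C₂ →ₐ[B₁] W₁.Z ⊗[B₁] C₂).toRingHom
  obtain ⟨γ, hγB, hγφ⟩ := hpo _ (zT.comp (algebraMap B W.Z)) ω (by
    ext b₁
    show inl (θ (algebraMap B W.Z (j b₁))) = _
    rw [hθ]
    show (1 : R) ⊗ₜ[R₁] (algebraMap B₁ W₁.Z b₁ ⊗ₜ[B₁] (1 : C₂)) =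
      (1 : R) ⊗ₜ[R₁] ((1 : W₁.Z) ⊗ₜ[B₁] algebraMap B₁ C₂ b₁)
    rw [Algebra.TensorProduct.tmul_one_eq_one_tmul])
  letI : Algebra B (R ⊗[R₁] (W₁.Z ⊗[B₁] C₂)) := (zT.comp (algebraMap B W.Z)).toAlgebra
  let zA : W.Z →ₐ[B] R ⊗[R₁] (W₁.Z ⊗[B₁] C₂) := { zT with commutes' := fun b => rfl }
  let γA : C →ₐ[B] R ⊗[R₁] (W₁.Z ⊗[B₁] C₂) :=
    { γ with commutes' := fun b => RingHom.congr_fun hγB b }
  have h0 := congrArg (Algebra.TensorProduct.lift zA γA fun _ _ => Commute.all _ _) (hc W)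
  rw [Algebra.TensorProduct.lift_tmul, map_one, one_mul, map_zero] at h0
  rw [← h0]
  clear h0 hc
  induction t using TensorProduct.induction_on with
  | zero => rw [map_zero, map_zero π.toRingHom, map_zero]
  | add a b ha hb => rw [map_add, ha, hb, map_add π.toRingHom, map_add]
  | tmul r c₂ =>
    show r ⊗ₜ[R₁] ((1 : W₁.Z) ⊗ₜ[B₁] c₂) =
      γ (π (r ⊗ₜ[R₁] c₂))
    rw [Algebra.TensorProduct.lift_tmul, map_mul]
    show _ = γ (algebraMap B C (algebraMap R B r)) * γ (φ c₂)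
    rw [← RingHom.comp_apply γ φ, hγφ, ← RingHom.comp_apply γ, hγB]
    show _ = inl (θ (algebraMap B W.Z (algebraMap R B r))) * ω c₂
    rw [hθR]
    show _ = ((r : R) ⊗ₜ[R₁] ((1 : W₁.Z) ⊗ₜ[B₁] (1 : C₂))) *
      ((1 : R) ⊗ₜ[R₁] ((1 : W₁.Z) ⊗ₜ[B₁] c₂))
    rw [Algebra.TensorProduct.tmul_mul_tmul, mul_one, Algebra.TensorProduct.tmul_mul_tmul, one_mul,
      one_mul]

end Groth.Agent.Fam20
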