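import Mathlib
import Groth.Agent.Fam20.SchDomDescent

/-! Etale quasi-sections of smooth morphisms are universally schematically dominant. -/

universe u

open CategoryTheory AlgebraicGeometry Limits TensorProduct Opposite TopologicalSpace

namespace Groth.Agent.Fam20

theorem eq_zero_of_appLE_specMap {X : Scheme.{u}} {Y V : X.Opens} (hY : IsAffineOpen Y) (hYV : Y ≤ V)
    (t : Γ(X, V)) {T : CommRingCat.{u}} (i : Γ(X, Y) ⟶ T) (e)
    (h : (Spec.map i ≫ hY.fromSpec).appLE V ⊤ e t = 0) :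
    i (X.presheaf.map (homOfLE hYV).op t) = 0 := by
  have e' : (⊤ : (Spec T).Opens) ≤ (Spec.map i ≫ hY.fromSpec) ⁻¹ᵁ Y := by
    rw [Scheme.Hom.comp_preimage, hY.fromSpec_preimage_self]
    simp
  rw [← Scheme.Hom.map_appLE (Spec.map i ≫ hY.fromSpec) e' (homOfLE hYV).op, CommRingCat.comp_apply]
    at h
  have h2 : (Spec.map i ≫ hY.fromSpec).appLE Y ⊤ e' = i ≫ (Scheme.ΓSpecIso T).inv := by
    rw [Scheme.Hom.comp_appLE, hY.fromSpec_app_self, Category.assoc, Scheme.Hom.map_appLE]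
    refine Eq.trans ?_ (Scheme.ΓSpecIso_inv_naturality i).symm
    rfl
  rw [h2, CommRingCat.comp_apply] at h
  exact ((Scheme.ΓSpecIso T).commRingCatIsoToRingEquiv.symm.map_eq_zero_iff).mp h

theorem res_eq_zero_of_qs {S S' B' : Scheme.{u}} (g : S' ⟶ S) [Smooth g] (q : B' ⟶ S') [Flat q]
    [LocallyOfFinitePresentation q] (V : B'.Opens) (t : Γ(B', V))
    (h : ∀ (Z : Scheme.{u}) (j : Z ⟶ S'), IsImmersion j → Etale (j ≫ g) →
      (pullback.snd j q).app V t = 0)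
    {W : S.Opens} (hW : IsAffineOpen W) {U : S'.Opens} (hU : IsAffineOpen U) (hUW : U ≤ g ⁻¹ᵁ W)
    {Y : B'.Opens} (hY : IsAffineOpen Y) (hYU : Y ≤ q ⁻¹ᵁ U) (hYV : Y ≤ V) :
    B'.presheaf.map (homOfLE hYV).op t = 0 := by
  let hb := g.appLE W U hUW
  let hc := q.appLE U Y hYU
  algebraize [hb.hom, hc.hom]
  haveI : Algebra.Smooth Γ(S, W) Γ(S', U) := g.smooth_appLE hW hU hUW
  haveI : Module.Flat Γ(S', U) Γ(B', Y) := q.flat_appLE hU hY hYU
  haveI : Algebra.FinitePresentation Γ(S', U) Γ(B', Y) := q.finitePresentation_appLE hU hY hYU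
  refine eq_zero_of_qs (R := Γ(S, W)) (B := Γ(S', U)) _ fun Q => ?_
  let bz : Γ(S', U) ⟶ CommRingCat.of Q.Z := CommRingCat.ofHom (algebraMap Γ(S', U) Q.Z)
  let j : Spec (CommRingCat.of Q.Z) ⟶ S' := Spec.map bz ≫ hU.fromSpec
  have hbz : Spec.map bz = Spec.map (CommRingCat.ofHom Q.proj.toRingHom) ≫
      Spec.map (CommRingCat.ofHom (algebraMap Γ(S', U) (Localization.Away Q.h))) := by
    rw [← Spec.map_comp]
    congr 1
    ext b
    exact (Q.proj.commutes b).symm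
  haveI : IsClosedImmersion (Spec.map (CommRingCat.ofHom Q.proj.toRingHom)) :=
    IsClosedImmersion.spec_of_surjective _ Q.surj
  haveI : IsOpenImmersion
      (Spec.map (CommRingCat.ofHom (algebraMap Γ(S', U) (Localization.Away Q.h)))) :=
    IsOpenImmersion.of_isLocalization Q.h
  have hj : IsImmersion j := by
    simp only [j, hbz]
    infer_instance
  have hje : Etale (j ≫ g) := by
    have : j ≫ g = Spec.map (CommRingCat.ofHom (algebraMap Γ(S, W) Q.Z)) ≫ hW.fromSpec := by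
      simp only [j, Category.assoc]
      rw [← IsAffineOpen.SpecMap_appLE_fromSpec g hW hU hUW, ← Spec.map_comp_assoc]
      congr 2
      ext r
      exact (IsScalarTower.algebraMap_apply Γ(S, W) Γ(S', U) Q.Z r).symm
    rw [this]
    haveI : Etale (Spec.map (CommRingCat.ofHom (algebraMap Γ(S, W) Q.Z))) :=
      HasRingHomProperty.Spec_iff.mpr (RingHom.etale_algebraMap.mpr Q.etale)
    infer_instance
  let T := Q.Z ⊗[Γ(S', U)] Γ(B', Y)
  let iZ : CommRingCat.of Q.Z ⟶ CommRingCat.of T :=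
    CommRingCat.ofHom (Algebra.TensorProduct.includeLeftRingHom)
  let iC : Γ(B', Y) ⟶ CommRingCat.of T :=
    CommRingCat.ofHom (Algebra.TensorProduct.includeRight (R := Γ(S', U)) (A := Q.Z)).toRingHom
  have hcomm : bz ≫ iZ = hc ≫ iC := by
    ext b
    exact Algebra.TensorProduct.tmul_one_eq_one_tmul b
  have hcond : Spec.map iZ ≫ j = (Spec.map iC ≫ hY.fromSpec) ≫ q := by
    simp only [j, Category.assoc]
    rw [← IsAffineOpen.SpecMap_appLE_fromSpec q hU hY hYU, ← Spec.map_comp_assoc,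
      ← Spec.map_comp_assoc, hcomm]
  let m := pullback.lift (f := j) (g := q) (Spec.map iZ) (Spec.map iC ≫ hY.fromSpec) hcond
  have hm : m ≫ pullback.snd j q = Spec.map iC ≫ hY.fromSpec := pullback.lift_snd _ _ _
  have e : (⊤ : (Spec (CommRingCat.of T)).Opens) ≤ (m ≫ pullback.snd j q) ⁻¹ᵁ V := by
    rw [hm, Scheme.Hom.comp_preimage]
    refine le_trans ?_ (Scheme.Hom.preimage_mono _ (Scheme.Hom.preimage_mono _ hYV))
    rw [hY.fromSpec_preimage_self]
    simp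
  have h0 : (m ≫ pullback.snd j q).appLE V ⊤ e t = 0 := by
    rw [Scheme.Hom.comp_appLE, CommRingCat.comp_apply, h _ j hj hje, map_zero]
  have key : ∀ (a : Spec (CommRingCat.of T) ⟶ B') (e : ⊤ ≤ a ⁻¹ᵁ V),
      a = Spec.map iC ≫ hY.fromSpec → a.appLE V ⊤ e t = 0 →
        iC (B'.presheaf.map (homOfLE hYV).op t) = 0 := by
    rintro a e rfl h'
    exact eq_zero_of_appLE_specMap hY hYV t iC e h'
  exact key _ e hm h0

/-- Etale quasi-sections are universally schematically dominant. -/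
theorem eq_zero_of_forall_qs {S S' B' : Scheme.{u}} (g : S' ⟶ S) [Smooth g] (q : B' ⟶ S') [Flat q]
    [LocallyOfFinitePresentation q] (V : B'.Opens) (t : Γ(B', V))
    (h : ∀ (Z : Scheme.{u}) (j : Z ⟶ S'), IsImmersion j → Etale (j ≫ g) →
      (pullback.snd j q).app V t = 0) : t = 0 := by
  have hex : ∀ y : V, ∃ (W : S.Opens) (U : S'.Opens) (Y : B'.Opens), IsAffineOpen W ∧
      IsAffineOpen U ∧ IsAffineOpen Y ∧ U ≤ g ⁻¹ᵁ W ∧ Y ≤ q ⁻¹ᵁ U ∧ Y ≤ V ∧ y.1 ∈ Y := by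
    intro y
    obtain ⟨W, hW, hyW, -⟩ := exists_isAffineOpen_mem_and_subset (Set.mem_univ (g (q y.1)))
      (U := (⊤ : S.Opens))
    obtain ⟨U, hU, hyU, hUW⟩ := exists_isAffineOpen_mem_and_subset (x := q y.1) (U := g ⁻¹ᵁ W) hyW
    obtain ⟨Y, hY, hyY, hYle⟩ := exists_isAffineOpen_mem_and_subset (x := y.1)
      (U := q ⁻¹ᵁ U ⊓ V) ⟨hyU, y.2⟩
    exact ⟨W, U, Y, hW, hU, hY, hUW, (show Y ≤ _ from hYle).trans inf_le_left,
      (show Y ≤ _ from hYle).trans inf_le_right, hyY⟩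
  choose W U Y hW hU hY hUW hYU hYV hyY using hex
  refine B'.sheaf.eq_of_locally_eq' Y V (fun y => homOfLE (hYV y))
    (fun x hx => Opens.mem_iSup.mpr ⟨⟨x, hx⟩, hyY _⟩) t 0 fun y => ?_
  show B'.presheaf.map _ t = B'.presheaf.map _ 0
  rw [map_zero]
  exact res_eq_zero_of_qs g q V t h (hW y) (hU y) (hUW y) (hY y) (hYU y) (hYV y)

end Groth.Agent.Fam20
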